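import Cfsg.Agent.Lib.G24J2.CheckSteps

/-!
The steps of generator 4 agree with its root element.
-/

set_option autoImplicit false

namespace CfsgLib.G24J2

theorem genStepOK4 : genStepOK 4 = true := by decide +kernel

end CfsgLib.G24J2
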