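import Cfsg.Agent.Lib.G24J2.CheckSteps
import Cfsg.Agent.Lib.G24J2.MaskData

/-!
The generators permute the 416 sets as tabulated.
-/

set_option autoImplicit false

namespace CfsgLib.G24J2

open CfsgLib.J2 (dig9 reachTree)

/-- The tabulated permutation of a generator on the sets. -/
def permAp (g i : ℕ) : ℕ := dig9 (permG.getD g 0) i

/-- A generator maps each set to the tabulated one. -/
def setImgOK (g : ℕ) : Bool :=
  (List.range 416).all fun i => decide (permAp g i < 416) &&
    genM g (setTab.get i) == setTab.get (permAp g i)

/-- A table is injective below a bound, certified by a sorting permutation. -/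
def injOK (T : Tab) (srt rk n : ℕ) : Bool :=
  ((List.range (n - 1)).all fun i =>
    decide (T.get (dig9 srt i) < T.get (dig9 srt (i + 1)))) &&
  (List.range n).all fun i => decide (dig9 rk i < n) && dig9 srt (dig9 rk i) == i

/-- Every set lies below position 4096. -/
def setBound : Bool := (List.range 416).all fun i => decide (setTab.get i < 2 ^ 4096)

/-- The sets form one orbit. -/
def setReachOK : Bool :=
  reachTree permAp (fun g => decide (g < 8)) setTree (2 ^ 0) == some (2 ^ 416 - 1)

theorem setImgOK0 : setImgOK 0 = true := by decide +kernel

theorem setImgOK1 : setImgOK 1 = true := by decide +kernel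

theorem setImgOK2 : setImgOK 2 = true := by decide +kernel

theorem setImgOK3 : setImgOK 3 = true := by decide +kernel

theorem setImgOK4 : setImgOK 4 = true := by decide +kernel

theorem setImgOK5 : setImgOK 5 = true := by decide +kernel

theorem setImgOK6 : setImgOK 6 = true := by decide +kernel

theorem setImgOK7 : setImgOK 7 = true := by decide +kernel

theorem setInjOK : injOK setTab setSorted setRank 416 = true := by decide +kernel

theorem setBound_true : setBound = true := by decide +kernel

theorem setReachOK_true : setReachOK = true := by decide +kernel

end CfsgLib.G24J2
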