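import Cfsg.Agent.Lib.G24J2.CheckMasks

/-!
The orbits of the subgroup on the 416 sets, and their suborbits.
-/

set_option autoImplicit false

namespace CfsgLib.G24J2

open CfsgLib.J2 (dig9 reachTree)

/-- A reflection on the sets. -/
def rAp (g i : ℕ) : ℕ := dig9 (permR.getD g 0) i

/-- The mask of a class of a labelling. -/
def classMask (lab c : ℕ) : ℕ :=
  ((List.range 416).filter fun i => dig4 lab i == c).foldl (fun m i => m ||| 2 ^ i) 0

/-- The orbits of the subgroup. -/
def orbitsOK : Bool :=
  ((List.range 4).all fun g => (List.range 416).all fun i =>
    decide (rAp g i < 416) && dig4 orbLab (rAp g i) == dig4 orbLab i) &&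
  ((List.range 416).all fun i => decide (dig4 orbLab i < 3)) &&
  (List.range 3).all fun c =>
    reachTree rAp (fun g => decide (g < 4)) (orbTree.getD c []) (2 ^ orbRep.getD c 0) ==
      some (classMask orbLab c)

/-- A stabilising word on the sets. -/
def wAp (ws : List (List ℕ)) (g i : ℕ) : ℕ := wordP permR (ws.getD g []) i

/-- The suborbits of an orbit `c` with representative `r`. -/
def subOK (c : ℕ) (ws : List (List ℕ)) (lab : ℕ) (reps : List ℕ) (trees : List (List (ℕ × ℕ))) :
    Bool :=
  ((List.range ws.length).all fun g =>
    (ws.getD g []).all (fun i => decide (i < 4)) &&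
      wAp ws g (orbRep.getD c 0) == orbRep.getD c 0) &&
  dig4 lab (orbRep.getD c 0) == 0 && reps.getD 0 0 == orbRep.getD c 0 &&
  ((List.range 416).all fun i => !(dig4 orbLab i == c) || decide (dig4 lab i < reps.length)) &&
  (List.range reps.length).all fun d =>
    reachTree (wAp ws) (fun g => decide (g < ws.length)) (trees.getD d []) (2 ^ reps.getD d 0) ==
      some (classMask orbLab c &&& classMask lab d)

/-- No union of classes through the first has size a proper divisor. -/
def sizesOK (n : ℕ) (sz : List ℕ) : Bool :=
  (List.range (2 ^ sz.length)).all fun J =>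
    !J.testBit 0 || J == 1 || J == 2 ^ sz.length - 1 ||
      !(n % (((List.range sz.length).filter fun d => J.testBit d).map fun d => sz.getD d 0).sum == 0)

/-- The number of points of orbit `c` with a label. -/
def classSize (c lab d : ℕ) : ℕ :=
  ((List.range 416).filter fun i => dig4 orbLab i == c && dig4 lab i == d).length

theorem orbitsOK_true : orbitsOK = true := by decide +kernel

theorem subOKA : subOK 1 stabWordsA subLabA subRepA subTreeA = true := by decide +kernel

theorem subOKB : subOK 2 stabWordsB subLabB subRepB subTreeB = true := by decide +kernel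

theorem sizesOKA :
    sizesOK 315 ((List.range 6).map fun d => classSize 1 subLabA d) = true := by decide +kernel

theorem sizesOKB :
    sizesOK 100 ((List.range 3).map fun d => classSize 2 subLabB d) = true := by decide +kernel

theorem sizesOKG :
    sizesOK 416 ((List.range 3).map fun d =>
      ((List.range 416).filter fun i => dig4 orbLab i == d).length) = true := by decide +kernel

theorem classSize_base : classSize 1 subLabA 0 = 1 ∧ classSize 2 subLabB 0 = 1 ∧
    ((List.range 416).filter fun i => dig4 orbLab i == 0).length = 1 := by decide +kernel

end CfsgLib.G24J2
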