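import Cfsg.Agent.Lib.G24J2.Data

/-!
The controlled-not steps realise the generating root elements.
-/

set_option autoImplicit false

namespace CfsgLib.G24J2

/-- The steps of a generator on masks. -/
def genM (g M : ℕ) : ℕ :=
  (genOps.getD g []).foldl (fun m k => stepM (opData.getD k (0, 0, 0)) m) M

/-- The steps of a generator on positions. -/
def genV (g v : ℕ) : ℕ :=
  (genOps.getD g []).foldr (fun k x => stepV (opData.getD k (0, 0, 0)) x) v

/-- Twenty steps are valid. -/
def opsOK (a : ℕ) : Bool :=
  (List.range 10).all fun k => stepOK (opData.getD (a + k) (0, 0, 0))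

/-- The steps of a generator agree with its root element. -/
def genStepOK (g : ℕ) : Bool :=
  (genOps.getD g []).all (fun k => decide (k < 40)) &&
    (List.range 4096).all fun v =>
      genV g v == mvN (simGens.getD g (0, 0)).1 (simGens.getD g (0, 0)).2 v

theorem opsOK0 : opsOK 0 = true := by decide +kernel

theorem opsOK1 : opsOK 10 = true := by decide +kernel

theorem opsOK2 : opsOK 20 = true := by decide +kernel

theorem opsOK3 : opsOK 30 = true := by decide +kernel

end CfsgLib.G24J2
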