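import Cfsg.Agent.Lib.G24J2.CheckMasks

/-!
The words for the root elements and for the four reflections, the planes, and the seven points.
-/

set_option autoImplicit false

namespace CfsgLib.G24J2

open CfsgLib.J2 (dig9 reachTree genAp)

/-- The coded standard basis vectors. -/
def stdCodes : List ℕ := [1, 4, 16, 64, 256, 1024]

/-- Each root element is the word. -/
def rootWordsOK : Bool :=
  (List.range 12).all fun r => (List.range 4).all fun t =>
    (rootWords.getD (4 * r + t) []).all (fun g => decide (g < 8)) &&
      stdCodes.all fun v => mvN r t v == wordV simGens (rootWords.getD (4 * r + t) []) v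

/-- The first vector of a plane. -/
def fstV (k : ℕ) : ℕ := dig12 lineFst k

/-- The second vector of a plane. -/
def sndV (k : ℕ) : ℕ := dig12 lineSnd k

/-- A combination of the vectors of a plane, by the code `4 a + b`. -/
def comb (k c : ℕ) : ℕ := smulN (c / 4) (fstV k) ^^^ smulN (c % 4) (sndV k)

/-- The mask of the nonzero vectors of a plane. -/
def planeMask (k : ℕ) : ℕ :=
  ((List.range 15).map fun c => 2 ^ comb k (c + 1)).foldl (· ||| ·) 0

/-- The planes are the tabulated masks, of vectors below 4096 and nonzero. -/
def planesOK : Bool :=
  (List.range 315).all fun k => planeMask k == lineTab.get k &&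
    (List.range 15).all fun c => decide (comb k (c + 1) < 4096) && !(comb k (c + 1) == 0)

/-- A reflection maps the planes as tabulated. -/
def reflOK (g : ℕ) : Bool :=
  (wordsR.getD g []).all (fun i => decide (i < 8)) &&
  (List.range 315).all fun k => decide (genAp g k < 315) && genAp g (genAp g k) == k &&
    wordV simGens (wordsR.getD g []) (fstV k) ==
      comb (genAp g k) (dig8 (lineCoef.getD g 0) k / 16) &&
    wordV simGens (wordsR.getD g []) (sndV k) ==
      comb (genAp g k) (dig8 (lineCoef.getD g 0) k % 16)

/-- A reflection permutes the sets as tabulated. -/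
def reflSetOK (g : ℕ) : Bool :=
  dig9 (permR.getD g 0) 0 == 0 &&
  (List.range 416).all fun i => wordP permG (wordsR.getD g []) i == dig9 (permR.getD g 0) i

/-- A combination of the first six points. -/
def frameComb (cs : List ℕ) : ℕ :=
  (List.range 6).foldl
    (fun v i => v ^^^ smulN (cs.getD i 0) (framePts.getD i (0, 0, 0)).1) 0

/-- The seven points. -/
def frameOK : Bool :=
  ((List.range 7).all fun i =>
    let x := framePts.getD i (0, 0, 0)
    decide (x.2.1 < 315) && decide (x.2.2 < 315) && decide (x.1 < 4096) &&
      (lineTab.get x.2.1).testBit x.1 && (lineTab.get x.2.2).testBit x.1 &&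
      (lineTab.get x.2.1 &&& lineTab.get x.2.2) ==
        (2 ^ smulN 1 x.1 ||| 2 ^ smulN 2 x.1 ||| 2 ^ smulN 3 x.1)) &&
  ((List.range 6).all fun i =>
    (decide (0 < frameCoef.getD i 0) && decide (frameCoef.getD i 0 < 4)) &&
      ((List.range 6).all fun j => decide ((frameInv.getD i []).getD j 0 < 4)) &&
      frameComb (frameInv.getD i []) == stdCodes.getD i 0) &&
  frameComb frameCoef == (framePts.getD 6 (0, 0, 0)).1

theorem rootWordsOK_true : rootWordsOK = true := by decide +kernel

theorem planesOK_true : planesOK = true := by decide +kernel

theorem reflOK0 : reflOK 0 = true := by decide +kernel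

theorem reflOK1 : reflOK 1 = true := by decide +kernel

theorem reflOK2 : reflOK 2 = true := by decide +kernel

theorem reflOK3 : reflOK 3 = true := by decide +kernel

theorem reflSetOK0 : reflSetOK 0 = true := by decide +kernel

theorem reflSetOK1 : reflSetOK 1 = true := by decide +kernel

theorem reflSetOK2 : reflSetOK 2 = true := by decide +kernel

theorem reflSetOK3 : reflSetOK 3 = true := by decide +kernel

theorem frameOK_true : frameOK = true := by decide +kernel

theorem lineInjOK : injOK lineTab lineSorted lineRank 315 = true := by decide +kernel

end CfsgLib.G24J2
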