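import Cfsg.Agent.Lib.J2.PermGroup

/-!
Coded arithmetic in the field with four elements and in its six-dimensional space, bit masks for sets
of vectors, and the Boolean checks on the tables.
-/

set_option autoImplicit false

namespace CfsgLib.G24J2

/-- A table of natural numbers with logarithmic access. -/
inductive Tab where
  | leaf (n : ℕ)
  | node (k : ℕ) (l r : Tab)

/-- The entry of a table. -/
def Tab.get : Tab → ℕ → ℕ
  | .leaf n, _ => n
  | .node k l r, i => if i < k then l.get i else r.get i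

/-- The product of two codes of field elements. -/
def fmul (a b : ℕ) : ℕ :=
  match a, b with
  | 1, 1 => 1
  | 1, 2 => 2
  | 1, 3 => 3
  | 2, 1 => 2
  | 2, 2 => 3
  | 2, 3 => 1
  | 3, 1 => 3
  | 3, 2 => 1
  | 3, 3 => 2
  | _, _ => 0

/-- A coordinate of a coded vector. -/
def crd (v i : ℕ) : ℕ := (v >>> (2 * i)) % 4

/-- The coded vector with given coordinates. -/
def pack (a b c d e f : ℕ) : ℕ := a + 4 * b + 16 * c + 64 * d + 256 * e + 1024 * f

/-- A scalar multiple of a coded vector. -/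
def smulN (a v : ℕ) : ℕ :=
  pack (fmul a (crd v 0)) (fmul a (crd v 1)) (fmul a (crd v 2)) (fmul a (crd v 3)) (fmul a (crd v 4))
    (fmul a (crd v 5))

/-- A root element on coded vectors. -/
def mvN (r t v : ℕ) : ℕ :=
  let a := crd v 0
  let b := crd v 1
  let c := crd v 2
  let d := crd v 3
  let e := crd v 4
  let f := crd v 5
  let s := fmul t t
  match r with
  | 0 => pack (a ^^^ fmul t e) (b ^^^ fmul t f) c d e f
  | 1 => pack (a ^^^ fmul t d) b (c ^^^ fmul t f) d e f
  | 2 => pack (a ^^^ fmul s f) (b ^^^ fmul t d) (c ^^^ fmul t e) d e f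
  | 3 => pack (a ^^^ fmul t c) (b ^^^ fmul s e) c (d ^^^ fmul t f) e f
  | 4 => pack (a ^^^ fmul t b) b (c ^^^ fmul s d) d (e ^^^ fmul t f) f
  | 5 => pack a (b ^^^ fmul t c) c (d ^^^ fmul t e) e f
  | 6 => pack a b (c ^^^ fmul t b) d (e ^^^ fmul t d) f
  | 7 => pack a (b ^^^ fmul t a) c (d ^^^ fmul s c) e (f ^^^ fmul t e)
  | 8 => pack a b (c ^^^ fmul t a) d (e ^^^ fmul s b) (f ^^^ fmul t d)
  | 9 => pack a b c (d ^^^ fmul t b) (e ^^^ fmul t c) (f ^^^ fmul s a)
  | 10 => pack a b c (d ^^^ fmul t a) e (f ^^^ fmul t c)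
  | 11 => pack a b c d (e ^^^ fmul t a) (f ^^^ fmul t b)
  | _ => pack a b c d e f

/-- One step on masks: the fixed part stays, the moved part is exchanged with its translate. -/
def stepM (o : ℕ × ℕ × ℕ) (M : ℕ) : ℕ :=
  (M &&& o.2.1) ||| (((M &&& o.2.2) <<< o.1) ||| ((M >>> o.1) &&& o.2.2))

/-- The permutation of the positions belonging to a step. -/
def stepV (o : ℕ × ℕ × ℕ) (v : ℕ) : ℕ :=
  if o.2.1.testBit v then v else if o.2.2.testBit v then v + o.1 else v - o.1

/-- A step is a permutation of the positions below 4096. -/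
def stepOK (o : ℕ × ℕ × ℕ) : Bool :=
  (List.range 4096).all fun v =>
    if o.2.1.testBit v then !o.2.2.testBit v && !(o.1 ≤ v && o.2.2.testBit (v - o.1))
    else if o.2.2.testBit v then !(o.1 ≤ v && o.2.2.testBit (v - o.1)) && decide (v + o.1 < 4096)
    else o.1 ≤ v && o.2.2.testBit (v - o.1)

/-- The field code evaluated on a word of generators. -/
def wordV (gens : List (ℕ × ℕ)) (w : List ℕ) (v : ℕ) : ℕ :=
  w.foldr (fun g x => mvN (gens.getD g (0, 0)).1 (gens.getD g (0, 0)).2 x) v

/-- A word of permutations evaluated at a point. -/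
def wordP (ps : List ℕ) (w : List ℕ) (x : ℕ) : ℕ :=
  w.foldr (fun g y => CfsgLib.J2.dig9 (ps.getD g 0) y) x

/-- Digits in base 16. -/
def dig4 (P i : ℕ) : ℕ := (P >>> (4 * i)) % 16

/-- Digits in base 256. -/
def dig8 (P i : ℕ) : ℕ := (P >>> (8 * i)) % 256

/-- Digits in base 4096. -/
def dig12 (P i : ℕ) : ℕ := (P >>> (12 * i)) % 4096

end CfsgLib.G24J2
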