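import Cfsg.Agent.Lib.G24J2.Defs
import Cfsg.Agent.Lib.G24.Graph

/-!
Decoding of codes into the field with four elements and into its six-dimensional space.
-/

set_option autoImplicit false
set_option linter.unusedSectionVars false
set_option linter.unusedSimpArgs false
set_option linter.unusedVariables false

namespace CfsgLib.G24J2

open CfsgLib.G24 (X mv X_apply two0 four0 three1)

variable {F : Type*} [Field F] [CharP F 2]

/-- The decoding of a field code, for a root `w` of `x² + x + 1`. -/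
def dec (w : F) : ℕ → F
  | 1 => 1
  | 2 => w
  | 3 => w + 1
  | _ => 0

theorem dec_zero (w : F) : dec w 0 = 0 := rfl

theorem dec_one (w : F) : dec w 1 = 1 := rfl

theorem dec_xor (w : F) {a b : ℕ} (ha : a < 4) (hb : b < 4) :
    dec w (a ^^^ b) = dec w a + dec w b := by
  interval_cases a <;> interval_cases b <;> simp [dec] <;> ring_nf <;> simp [two0]

theorem fmul_lt (a b : ℕ) : fmul a b < 4 := by unfold fmul; split <;> omega

theorem dec_fmul {w : F} (hw : w * w = w + 1) {a b : ℕ} (ha : a < 4) (hb : b < 4) :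
    dec w (fmul a b) = dec w a * dec w b := by
  interval_cases a <;> interval_cases b <;> simp [dec, fmul]
  · linear_combination -hw
  · linear_combination -hw - w * two0 (F := F)
  · linear_combination -hw - w * two0 (F := F)
  · linear_combination -hw - w * two0 (F := F) - two0 (F := F)

theorem omega_ne {w : F} (hw : w * w = w + 1) : w ≠ 0 ∧ w ≠ 1 ∧ w + 1 ≠ 0 := by
  refine ⟨?_, ?_, ?_⟩
  · rintro rfl; simp at hw
  · rintro rfl; rw [mul_one, eq_comm, add_eq_left] at hw; exact one_ne_zero hw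
  · intro h; rw [h, mul_self_eq_zero] at hw; simp [hw] at h

theorem dec_inj {w : F} (hw : w * w = w + 1) {a b : ℕ} (ha : a < 4) (hb : b < 4)
    (h : dec w a = dec w b) : a = b := by
  obtain ⟨h0, h1, h2⟩ := omega_ne hw
  have h3 : w + 1 ≠ w := by simp
  have h4 : w + 1 ≠ 1 := by simpa using h0
  interval_cases a <;> interval_cases b <;> simp [dec, h0, h1, h2, h3, h4, h0.symm, h1.symm, h2.symm, h3.symm, h4.symm] at h ⊢

/-- The decoding of a coded vector. -/
def dec6 (w : F) (v : ℕ) : Fin 6 → F := fun i => dec w (crd v i)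

theorem crd_lt (v i : ℕ) : crd v i < 4 := Nat.mod_lt _ (by norm_num)

theorem crd_pack {a b c d e f : ℕ} (ha : a < 4) (hb : b < 4) (hc : c < 4) (hd : d < 4) (he : e < 4)
    (hf : f < 4) :
    crd (pack a b c d e f) 0 = a ∧ crd (pack a b c d e f) 1 = b ∧ crd (pack a b c d e f) 2 = c ∧
      crd (pack a b c d e f) 3 = d ∧ crd (pack a b c d e f) 4 = e ∧ crd (pack a b c d e f) 5 = f := by
  simp only [crd, pack, Nat.shiftRight_eq_div_pow]
  norm_num
  omega

theorem pack_lt {a b c d e f : ℕ} (ha : a < 4) (hb : b < 4) (hc : c < 4) (hd : d < 4) (he : e < 4)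
    (hf : f < 4) : pack a b c d e f < 4096 := by
  simp only [pack]; omega

theorem dec6_pack (w : F) {a b c d e f : ℕ} (ha : a < 4) (hb : b < 4) (hc : c < 4) (hd : d < 4)
    (he : e < 4) (hf : f < 4) :
    dec6 w (pack a b c d e f) = ![dec w a, dec w b, dec w c, dec w d, dec w e, dec w f] := by
  obtain ⟨h0, h1, h2, h3, h4, h5⟩ := crd_pack ha hb hc hd he hf
  funext i
  fin_cases i <;> simp [dec6, h0, h1, h2, h3, h4, h5]

theorem xor_lt4 {a b : ℕ} (ha : a < 4) (hb : b < 4) : a ^^^ b < 4 :=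
  Nat.xor_lt_two_pow (n := 2) ha hb

theorem X_dec6 {w : F} (hw : w * w = w + 1) (r : ℕ) (hr : r < 12) {t : ℕ} (ht : t < 4) (v : ℕ) :
    X r (dec w t) (dec6 w v) = dec6 w (mvN r t v) := by
  rw [X_apply]
  have hx : ∀ i j : ℕ, ∀ s, s < 4 →
      dec w (crd v i ^^^ fmul s (crd v j)) = dec w (crd v i) + dec w s * dec w (crd v j) :=
    fun i j s hs => by rw [dec_xor w (crd_lt v i) (fmul_lt _ _), dec_fmul hw hs (crd_lt v j)]
  have hs : dec w (fmul t t) = dec w t * dec w t := dec_fmul hw ht ht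
  have hx' : ∀ i j : ℕ, crd v i ^^^ fmul j (crd v i) < 4 := fun i j =>
    xor_lt4 (crd_lt _ _) (fmul_lt _ _)
  interval_cases r <;> simp only [mvN] <;>
    rw [dec6_pack] <;>
    first
    | (funext i; fin_cases i <;> simp [mv, dec6, hx _ _ _ ht, hx _ _ _ (fmul_lt t t), hs, mul_assoc])
    | exact crd_lt _ _
    | exact xor_lt4 (crd_lt _ _) (fmul_lt _ _)

theorem dec6_xor (w : F) (u v : ℕ) : dec6 w (u ^^^ v) = dec6 w u + dec6 w v := by
  funext i
  have : crd (u ^^^ v) i = crd u i ^^^ crd v i := by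
    simp only [crd, Nat.shiftRight_xor_distrib]
    exact Nat.xor_mod_two_pow (n := 2)
  simp only [dec6, Pi.add_apply, this, dec_xor w (crd_lt u i) (crd_lt v i)]

theorem dec6_zero (w : F) : dec6 w 0 = 0 := by
  funext i; simp [dec6, crd, dec]

theorem dec6_smulN {w : F} (hw : w * w = w + 1) {a : ℕ} (ha : a < 4) (v : ℕ) :
    dec6 w (smulN a v) = dec w a • dec6 w v := by
  simp only [smulN]
  rw [dec6_pack] <;>
    first
    | (funext i; fin_cases i <;> simp [dec6, dec_fmul hw ha (crd_lt v _)])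
    | exact fmul_lt _ _

theorem dec6_inj {w : F} (hw : w * w = w + 1) {u v : ℕ} (hu : u < 4096) (hv : v < 4096)
    (h : dec6 w u = dec6 w v) : u = v := by
  have : ∀ i : Fin 6, crd u i = crd v i := fun i => dec_inj hw (crd_lt _ _) (crd_lt _ _) (congrFun h i)
  have h0 := this 0; have h1 := this 1; have h2 := this 2
  have h3 := this 3; have h4 := this 4; have h5 := this 5
  simp [crd, Nat.shiftRight_eq_div_pow] at h0 h1 h2 h3 h4 h5
  omega

theorem dec6_std (w : F) :
    ∀ i : Fin 6, dec6 w ([1, 4, 16, 64, 256, 1024].getD (i : ℕ) 0) = Pi.single i 1 := by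
  intro i
  fin_cases i <;> (funext j; fin_cases j <;> simp [dec6, crd, dec])

theorem omega_exists [Fintype F] (hF : Fintype.card F = 4) :
    ∃ w : F, w * w = w + 1 ∧ ∀ x : F, ∃ a < 4, dec w a = x := by
  classical
  obtain ⟨w, h0, h1⟩ := CfsgLib.G24.exists_ne_zero_one (F := F) hF
  have h4 : w ^ 4 = w := by simpa [hF] using FiniteField.pow_card w
  have h3 : (w - 1) * (w * (w ^ 2 + w + 1)) = 0 := by linear_combination h4
  have hne : w - 1 ≠ 0 := sub_ne_zero.mpr h1
  have hw' : w ^ 2 + w + 1 = 0 := by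
    rcases mul_eq_zero.mp h3 with h | h
    · exact absurd h hne
    · exact (mul_eq_zero.mp h).resolve_left h0
  have hw : w * w = w + 1 := by linear_combination hw' - w * two0 (F := F) - two0 (F := F)
  refine ⟨w, hw, ?_⟩
  have hinj : Function.Injective fun a : Fin 4 => dec w (a : ℕ) := fun a b h =>
    Fin.ext (dec_inj hw a.2 b.2 h)
  have hbij := (Fintype.bijective_iff_injective_and_card _).mpr ⟨hinj, by simp [hF]⟩
  intro x
  obtain ⟨a, ha⟩ := hbij.2 x
  exact ⟨a, a.2, ha⟩

end CfsgLib.G24J2
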