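import Mathlib

/-!
A group of permutations generated by involutions permuting a family of sets, and primitivity from
suborbits.
-/

set_option autoImplicit false
set_option linter.unusedSectionVars false

namespace CfsgLib.G24J2

variable {A V ι : Type*} [Group A] [MulAction A V] [Finite ι]

/-- The elements permuting a family of sets. -/
def famStab (O : ι → Set V) (hO : Function.Injective O) : Subgroup A where
  carrier := {g | ∀ i, ∃ j, (fun x => g • x) '' O i = O j}
  one_mem' := fun i => ⟨i, by simp⟩
  mul_mem' := by
    intro a b ha hb i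
    obtain ⟨j, hj⟩ := hb i
    obtain ⟨k, hk⟩ := ha j
    exact ⟨k, by rw [← hk, ← hj, Set.image_image]; simp [mul_smul]⟩
  inv_mem' := by
    intro a ha
    choose f hf using ha
    have hinj : Function.Injective f := fun i j e => hO <| by
      have hi := hf i
      rw [e, ← hf j] at hi
      exact (MulAction.injective a).image_injective hi
    have hsurj := (Finite.injective_iff_surjective (f := f)).mp hinj
    intro i
    obtain ⟨j, rfl⟩ := hsurj i
    exact ⟨j, by rw [← hf j, Set.image_image]; simp⟩

/-- The induced permutation. -/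
noncomputable def famMap (O : ι → Set V) (hO : Function.Injective O)
    (g : famStab (A := A) O hO) (i : ι) : ι := (g.2 i).choose

theorem famMap_spec (O : ι → Set V) (hO : Function.Injective O) (g : famStab (A := A) O hO)
    (i : ι) : (fun x => (g : A) • x) '' O i = O (famMap O hO g i) := (g.2 i).choose_spec

theorem famMap_eq {O : ι → Set V} {hO : Function.Injective O} {g : famStab (A := A) O hO}
    {i j : ι} (h : (fun x => (g : A) • x) '' O i = O j) : famMap O hO g i = j :=
  hO ((famMap_spec O hO g i).symm.trans h)

/-- The action on the family. -/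
noncomputable def famPerm (O : ι → Set V) (hO : Function.Injective O) :
    famStab (A := A) O hO →* Equiv.Perm ι :=
  @MulAction.toPermHom _ ι _
    { smul := famMap O hO
      one_smul := fun i => famMap_eq (by simp)
      mul_smul := fun a b i => famMap_eq (by
        show _ = O (famMap O hO a (famMap O hO b i))
        rw [← famMap_spec O hO a, ← famMap_spec O hO b, Set.image_image]
        simp [mul_smul]) }

theorem famPerm_apply {O : ι → Set V} {hO : Function.Injective O} {g : famStab (A := A) O hO}
    {i j : ι} (h : (fun x => (g : A) • x) '' O i = O j) : famPerm O hO g i = j :=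
  famMap_eq h

theorem famPerm_spec {O : ι → Set V} {hO : Function.Injective O} (g : famStab (A := A) O hO)
    (i : ι) : (fun x => (g : A) • x) '' O i = O (famPerm O hO g i) :=
  famMap_spec O hO g i

variable {G X : Type*} [Group G] [MulAction G X]

open scoped Pointwise in
theorem block_smul_mem {B : Set X} (hB : MulAction.IsBlock G B) {x0 x : X} (hx0 : x0 ∈ B)
    {g : G} (hg : g • x0 = x0) (hx : x ∈ B) : g • x ∈ B := by
  have e : g • B = B :=
    hB.smul_eq_of_nonempty (by
      exact ⟨x0, ⟨x0, hx0, hg⟩, hx0⟩)
  rw [← e]
  exact Set.smul_mem_smul_set hx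

open scoped Classical in
/-- Primitivity from classes connected inside a point stabiliser and their sizes. -/
theorem preprimitive_of_classes [Finite X] [MulAction.IsPretransitive G X] (x0 : X) {m : ℕ}
    (lab : X → Fin m) (rep : Fin m → X) (size : Fin m → ℕ) (hsize : ∀ d, {x | lab x = d}.ncard = size d)
    (h0 : ∀ x, lab x = lab x0 → x = x0)
    (hconn : ∀ x, ∃ g : G, g • x0 = x0 ∧ g • rep (lab x) = x)
    (harith : ∀ J : Finset (Fin m), lab x0 ∈ J → (∑ d ∈ J, size d) ∣ Nat.card X →
      J = {lab x0} ∨ J = Finset.univ) : MulAction.IsPreprimitive G X := by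
  cases nonempty_fintype X
  refine MulAction.IsPreprimitive.of_isTrivialBlock_base x0 fun {B} hx0 hB => ?_
  let J : Finset (Fin m) := Finset.univ.filter fun d => ∃ x ∈ B, lab x = d
  have hmem : ∀ x, x ∈ B ↔ lab x ∈ J := by
    intro x
    refine ⟨fun h => by simp only [J, Finset.mem_filter, Finset.mem_univ, true_and]; exact ⟨x, h, rfl⟩, ?_⟩
    intro h
    simp only [J, Finset.mem_filter, Finset.mem_univ, true_and] at h
    obtain ⟨y, hy, e⟩ := h
    obtain ⟨a, ha0, ha⟩ := hconn x
    obtain ⟨b, hb0, hb⟩ := hconn y
    rw [e] at hb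
    have : (a * b⁻¹) • y = x := by rw [mul_smul, ← hb, inv_smul_smul, ha]
    rw [← this]
    refine block_smul_mem hB hx0 ?_ hy
    rw [mul_smul, inv_smul_eq_iff.mpr hb0.symm, ha0]
  have hcard : B.ncard = ∑ d ∈ J, size d := by
    rw [Set.ncard_eq_toFinset_card', Finset.card_eq_sum_card_fiberwise (f := lab) (t := J)
      (fun x hx => (hmem x).mp (by simpa using hx))]
    refine Finset.sum_congr rfl fun d hd => ?_
    rw [← hsize d, Set.ncard_eq_toFinset_card']
    congr 1
    ext x
    simp only [Finset.mem_filter, Set.mem_toFinset, Set.mem_setOf_eq, and_iff_right_iff_imp]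
    intro e
    exact (hmem x).mpr (e ▸ hd)
  rcases harith J ((hmem x0).mp hx0) (hcard ▸ hB.ncard_dvd_card ⟨x0, hx0⟩) with h | h
  · refine Or.inl fun a ha b hb => ?_
    have key : ∀ x ∈ B, x = x0 := fun x hx => h0 x (by simpa [h] using (hmem x).mp hx)
    rw [key a ha, key b hb]
  · exact Or.inr (Set.eq_univ_of_forall fun x => (hmem x).mpr (h ▸ Finset.mem_univ _))

end CfsgLib.G24J2
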