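import Cfsg.Agent.Lib.G24J2.Sets
import Cfsg.Agent.Lib.G24J2.CheckOrbits
import Cfsg.Agent.Lib.G24J2.Perm
import Cfsg.Agent.Lib.J2.Center

/-!
The generated group, its transitive action on 416 points, and the subgroup of reflections.
-/

set_option autoImplicit false
set_option linter.unusedSectionVars false
set_option linter.unusedSimpArgs false
set_option linter.unusedVariables false

namespace CfsgLib.G24J2

open CfsgLib.J2 (dig9 genAp reachTree)
open CfsgLib.G24 (X form stRep stRep_gen)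
open Cfsg.Lie

variable {F : Type*} [Field F] [CharP F 2]

/-- The linear automorphisms. -/
abbrev E6 (F : Type*) [Field F] := (Fin 6 → F) ≃ₗ[F] (Fin 6 → F)

theorem X_eq_word {w : F} (hw : w * w = w + 1) {r t : ℕ} (hr : r < 12) (ht : t < 4) :
    X r (dec w t) = wordS w (rootWords.getD (4 * r + t) []) := by
  have h := rootWordsOK_true
  simp only [rootWordsOK, stdCodes, List.all_eq_true, List.mem_range, Bool.and_eq_true,
    decide_eq_true_eq, beq_iff_eq] at h
  obtain ⟨h1, h2⟩ := h r hr t ht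
  apply LinearEquiv.toLinearMap_injective
  refine (Pi.basisFun F (Fin 6)).ext fun i => ?_
  rw [Pi.basisFun_apply, ← dec6_std w i]
  have hm : [1, 4, 16, 64, 256, 1024].getD (i : ℕ) 0 ∈ [1, 4, 16, 64, 256, 1024] := by
    fin_cases i <;> simp
  show X r (dec w t) _ = wordS w _ _
  rw [X_dec6 hw r hr ht, wordS_dec6 hw _ h1, h2 _ hm]

/-- The group generated by the eight root elements. -/
def K8 (w : F) : Subgroup (E6 F) := Subgroup.closure {x | ∃ g < 8, S8 w g = x}

theorem wordS_mem (w : F) {l : List ℕ} (hl : ∀ g ∈ l, g < 8) : wordS w l ∈ K8 w :=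
  Subgroup.list_prod_mem _ fun x hx => by
    obtain ⟨g, hg, rfl⟩ := List.mem_map.mp hx
    exact Subgroup.subset_closure ⟨g, hl g hg, rfl⟩

theorem X_mem_K8 {w : F} (hw : w * w = w + 1) {r t : ℕ} (hr : r < 12) (ht : t < 4) :
    X r (dec w t) ∈ K8 w := by
  have h := rootWordsOK_true
  simp only [rootWordsOK, List.all_eq_true, List.mem_range, Bool.and_eq_true,
    decide_eq_true_eq] at h
  rw [X_eq_word hw hr ht]
  exact wordS_mem w (h r hr t ht).1

theorem exists_equiv [Fintype F] {w : F} (hw : w * w = w + 1)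
    (hs : ∀ x : F, ∃ a < 4, dec w a = x) :
    Nonempty (↥(chevG2.group F) ≃* ↥(K8 w)) ∧
      ∀ g ∈ K8 w, ∀ x y, form (g x) (g y) = form x y := by
  have hF : ∃ a : F, a ≠ 0 ∧ a ≠ 1 := ⟨w, (omega_ne hw).1, (omega_ne hw).2.1⟩
  obtain ⟨θ, hθ, hk, -⟩ := Cfsg.Agent.S1077.result (K := F) chevG2 (by simp)
  rw [Cfsg.Agent.S1078.result chevG2 (by simp)] at hk
  let e := MulEquiv.ofBijective θ ⟨(MonoidHom.ker_eq_bot_iff θ).mp hk, hθ⟩
  let ρ : ↥(chevG2.group F) →* E6 F := stRep.comp e.symm.toMonoidHom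
  have hρ : ∀ (r : Fin 12) (t : F), ρ (e (chevG2.stGen F r t)) = X r t := fun r t => by
    simp [ρ, stRep_gen]
  have hinj : Function.Injective ρ := by
    haveI := (Cfsg.Agent.S1055.result hF).1
    rcases ρ.normal_ker.eq_bot_or_eq_top with h | h
    · exact (MonoidHom.ker_eq_bot_iff ρ).mp h
    · exfalso
      have h1 : ρ (e (chevG2.stGen F (11 : Fin 12) 1)) = 1 := by
        rw [← MonoidHom.mem_ker, h]; exact Subgroup.mem_top _
      rw [hρ] at h1
      have h2 := congrFun (DFunLike.congr_fun h1 (Pi.single 0 1)) 4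
      simp [CfsgLib.G24.X_apply, CfsgLib.G24.mv] at h2
  have hrange : ρ.range = K8 w := by
    apply le_antisymm
    · rintro _ ⟨g, rfl⟩
      suffices h : (⊤ : Subgroup (chevG2.SteinbergGroup F)) ≤ (K8 w).comap stRep from
        h (Subgroup.mem_top (e.symm g))
      rw [← PresentedGroup.closure_range_of, Subgroup.closure_le]
      rintro _ ⟨⟨r, t⟩, rfl⟩
      simp only [SetLike.mem_coe, Subgroup.mem_comap, stRep, PresentedGroup.toGroup.of]
      obtain ⟨a, ha, rfl⟩ := hs t
      exact X_mem_K8 hw r.2 ha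
    · rw [K8, Subgroup.closure_le]
      rintro _ ⟨g, hg, rfl⟩
      exact ⟨_, hρ ⟨_, (simGens_lt hg).1⟩ _⟩
  refine ⟨⟨(MonoidHom.ofInjective hinj).trans (MulEquiv.subgroupCongr hrange)⟩, ?_⟩
  intro g hg
  rw [← hrange] at hg
  obtain ⟨x, rfl⟩ := hg
  exact fun a b => CfsgLib.G24.form_stRep (e.symm x) a b

theorem K8_le_stab {w : F} (hw : w * w = w + 1) :
    K8 w ≤ famStab (A := E6 F) (setO w) (setO_inj hw) := by
  rw [K8, Subgroup.closure_le]
  rintro _ ⟨g, hg, rfl⟩ i
  exact ⟨_, S8_setO hw hg i⟩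

/-- The action on the 416 sets. -/
noncomputable def setPerm {w : F} (hw : w * w = w + 1) : ↥(K8 w) →* Equiv.Perm (Fin 416) :=
  (famPerm (A := E6 F) (setO w) (setO_inj hw)).comp (Subgroup.inclusion (K8_le_stab hw))

/-- A generator in the generated group. -/
noncomputable def sK (w : F) {g : ℕ} (hg : g < 8) : ↥(K8 w) :=
  ⟨S8 w g, Subgroup.subset_closure ⟨g, hg, rfl⟩⟩

theorem setPerm_sK {w : F} (hw : w * w = w + 1) {g : ℕ} (hg : g < 8) (i : Fin 416) :
    (setPerm hw (sK w hg) i : ℕ) = permAp g i := by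
  rw [setPerm, MonoidHom.comp_apply, famPerm_apply (S8_setO hw hg i)]

theorem setPerm_word {w : F} (hw : w * w = w + 1) :
    ∀ (l : List ℕ) (hl : ∀ g ∈ l, g < 8) (i : Fin 416),
      (setPerm hw ⟨wordS w l, wordS_mem w hl⟩ i : ℕ) = wordP permG l i
  | [], hl, i => by
    rw [show (⟨wordS w [], wordS_mem w hl⟩ : ↥(K8 w)) = 1 from rfl, map_one]; rfl
  | g :: l, hl, i => by
    have hl' : ∀ x ∈ l, x < 8 := fun x hx => hl x (List.mem_cons_of_mem _ hx)
    have : (⟨wordS w (g :: l), wordS_mem w hl⟩ : ↥(K8 w)) =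
        sK w (hl g (List.mem_cons_self ..)) * ⟨wordS w l, wordS_mem w hl'⟩ := Subtype.ext rfl
    rw [this, map_mul, Equiv.Perm.mul_apply, setPerm_sK, setPerm_word hw l hl' i]
    rfl

/-- A reflection in the generated group. -/
noncomputable def rK (w : F) {g : ℕ} (hg : g < 4) : ↥(K8 w) :=
  ⟨R4 w g, wordS_mem w (wordsR_lt hg)⟩

theorem reflSetOK_all {g : ℕ} (hg : g < 4) : reflSetOK g = true := by
  interval_cases g
  exacts [reflSetOK0, reflSetOK1, reflSetOK2, reflSetOK3]

theorem setPerm_rK {w : F} (hw : w * w = w + 1) {g : ℕ} (hg : g < 4) (i : Fin 416) :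
    (setPerm hw (rK w hg) i : ℕ) = rAp g i := by
  have h := reflSetOK_all hg
  simp only [reflSetOK, Bool.and_eq_true, List.all_eq_true, List.mem_range, beq_iff_eq] at h
  exact (setPerm_word hw (wordsR.getD g []) (wordsR_lt hg) i).trans (h.2 i i.2)

/-- The subgroup generated by the four reflections. -/
def H4 (w : F) : Subgroup ↥(K8 w) := Subgroup.closure {x | ∃ g, ∃ hg : g < 4, rK w hg = x}

theorem H4_fix_zero {w : F} (hw : w * w = w + 1) {h : ↥(K8 w)} (hh : h ∈ H4 w) :
    setPerm hw h 0 = 0 := by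
  suffices h : H4 w ≤ (MulAction.stabilizer (Equiv.Perm (Fin 416)) (0 : Fin 416)).comap (setPerm hw)
    from h hh
  rw [H4, Subgroup.closure_le]
  rintro _ ⟨g, hg, rfl⟩
  have h := reflSetOK_all hg
  simp only [reflSetOK, Bool.and_eq_true, beq_iff_eq] at h
  exact Fin.ext (by rw [Equiv.Perm.smul_def, setPerm_rK hw hg]; exact h.1)

theorem pretrans {w : F} (hw : w * w = w + 1) (i : Fin 416) :
    ∃ g : ↥(K8 w), setPerm hw g 0 = i := by
  have h := setReachOK_true
  simp only [setReachOK, beq_iff_eq] at h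
  refine (CfsgLib.J2.reachTree_spec
    (P := fun y => ∃ hy : y < 416, ∃ g : ↥(K8 w), setPerm hw g 0 = ⟨y, hy⟩)
    ?_ _ _ _ h ?_ i (by rw [Nat.testBit_two_pow_sub_one]; simp)).2
  · rintro x g hg ⟨hx, k, hk⟩
    simp only [decide_eq_true_eq] at hg
    exact ⟨permAp_lt hg hx, sK w hg * k, by
      rw [map_mul, Equiv.Perm.mul_apply, hk]; exact Fin.ext (setPerm_sK hw hg _)⟩
  · intro y hy
    rw [Nat.testBit_two_pow, decide_eq_true_eq] at hy
    subst hy
    exact ⟨by norm_num, 1, by simp⟩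

/-! ### The subgroup and the lines -/

theorem wordS_reverse (w : F) : ∀ l : List ℕ, (wordS w l)⁻¹ = wordS w l.reverse
  | [] => by simp [wordS]
  | g :: l => by
    rw [List.reverse_cons, show wordS w (g :: l) = S8 w g * wordS w l from rfl, mul_inv_rev,
      wordS_reverse w l, S8_inv]
    simp [wordS]

theorem R4_sq (w : F) {g : ℕ} (hg : g < 4) : R4 w g * R4 w g = 1 := by
  have e : (wordsR.getD g []).reverse = wordsR.getD g [] := by interval_cases g <;> rfl
  have h : (R4 w g)⁻¹ = R4 w g :=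
    (wordS_reverse w (wordsR.getD g [])).trans (congrArg (wordS w) e)
  nth_rw 1 [← h]
  exact inv_mul_cancel _

theorem rK_plane {w : F} (hw : w * w = w + 1) {g : ℕ} (hg : g < 4) (k : Fin 315) :
    (fun x => (R4 w g) • x) '' planeP w k = planeP w ⟨genAp g k, genAp_lt hg k.2⟩ := by
  refine subset_antisymm (R4_sub hw hg k) ?_
  intro y hy
  obtain ⟨a, b, rfl⟩ := hy
  -- the reflection is an involution on the planes
  have hsub := R4_sub hw hg ⟨genAp g k, genAp_lt hg k.2⟩
  have e : (⟨genAp g (genAp g k), genAp_lt hg (genAp_lt hg k.2)⟩ : Fin 315) = k :=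
    Fin.ext (genAp_invol hg k.2)
  simp only [e] at hsub
  have hinv : R4 w g * R4 w g = 1 := R4_sq w hg
  refine ⟨R4 w g (a • dec6 w (fstV (genAp g k)) + b • dec6 w (sndV (genAp g k))),
    hsub ⟨_, ⟨a, b, rfl⟩, rfl⟩, ?_⟩
  exact LinearEquiv.congr_fun hinv _

end CfsgLib.G24J2
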