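import Cfsg.Agent.Lib.G24J2.CheckOrbits
import Cfsg.Agent.Lib.G24J2.Perm

/-!
Primitivity on the 416 points and extreme primitivity.
-/

set_option autoImplicit false
set_option linter.unusedSectionVars false
set_option linter.unusedSimpArgs false
set_option linter.unusedVariables false

namespace CfsgLib.G24J2

open CfsgLib.J2 (dig9 reachTree)

theorem classMask_bit (lab c : ℕ) {i : ℕ} :
    (classMask lab c).testBit i = true ↔ i < 416 ∧ dig4 lab i = c := by
  have key : ∀ (l : List ℕ) (m : ℕ), (l.foldl (fun m i => m ||| 2 ^ i) m).testBit i = true ↔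
      m.testBit i = true ∨ i ∈ l := by
    intro l
    induction l with
    | nil => simp
    | cons a l ih =>
      intro m
      rw [List.foldl_cons, ih, Nat.testBit_or, Bool.or_eq_true, Nat.testBit_two_pow]
      simp only [List.mem_cons, decide_eq_true_eq, or_assoc, eq_comm (a := a) (b := i)]
  rw [classMask, key]
  simp only [Nat.zero_testBit, Bool.false_eq_true, false_or, List.mem_filter, List.mem_range,
    beq_iff_eq]

theorem sizes_spec {n : ℕ} {sz : List ℕ} (h : sizesOK n sz = true) (J : Finset (Fin sz.length))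
    (i0 : Fin sz.length) (hi0 : (i0 : ℕ) = 0) (hJ : i0 ∈ J) (hdvd : (∑ d ∈ J, sz.getD d 0) ∣ n) :
    J = {i0} ∨ J = Finset.univ := by
  classical
  let M : ℕ := Nat.ofBits fun d : Fin sz.length => decide (d ∈ J)
  have hbit : ∀ d : Fin sz.length, M.testBit d = decide (d ∈ J) := fun d => by
    simp [M]
  have hlt : M < 2 ^ sz.length := Nat.ofBits_lt_two_pow _
  simp only [sizesOK, List.all_eq_true, List.mem_range, Bool.or_eq_true, Bool.not_eq_true',
    beq_iff_eq, beq_eq_false_iff_ne] at h
  have hsum : (((List.range sz.length).filter fun d => M.testBit d).map fun d => sz.getD d 0).sum =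
      ∑ d ∈ J, sz.getD d 0 := by
    rw [← List.sum_toFinset _ ((List.nodup_range).filter _)]
    refine (Finset.sum_bij (fun (d : Fin sz.length) _ => (d : ℕ)) ?_ ?_ ?_ ?_).symm
    · intro d hd
      simp [hbit, hd]
    · intro a _ b _ e; exact Fin.ext e
    · intro b hb
      simp only [List.mem_toFinset, List.mem_filter, List.mem_range] at hb
      exact ⟨⟨b, hb.1⟩, by simpa [hbit ⟨b, hb.1⟩] using hb.2, rfl⟩
    · intro d hd; rfl
  rcases h M hlt with ((h1 | h1) | h1) | h1
  · have := hbit i0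
    rw [hi0, h1] at this
    simp [hJ] at this
  · left
    ext d
    simp only [Finset.mem_singleton]
    have := hbit d
    rw [h1] at this
    constructor
    · intro hd
      simp only [hd, decide_true] at this
      exact Fin.ext (by rw [hi0]; exact Nat.testBit_one_eq_true_iff_self_eq_zero.mp this)
    · rintro rfl; exact hJ
  · right
    refine Finset.eq_univ_of_forall fun d => ?_
    have := hbit d
    rw [h1, Nat.testBit_two_pow_sub_one] at this
    simpa [d.2] using this.symm
  · rw [hsum] at h1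
    exact absurd (Nat.dvd_iff_mod_eq_zero.mp hdvd) h1

theorem reach_start {ap : ℕ → ℕ → ℕ} {ok : ℕ → Bool} : ∀ (es : List (ℕ × ℕ)) (r m : ℕ),
    reachTree ap ok es (2 ^ r) = some m → m.testBit r = true := by
  suffices h : ∀ (es : List (ℕ × ℕ)) (r m0 m : ℕ), m0.testBit r = true →
      reachTree ap ok es m0 = some m → m.testBit r = true from
    fun es r m => h es r _ m (Nat.testBit_two_pow_self)
  intro es
  induction es with
  | nil => intro r m0 m h0 e; simp only [reachTree, Option.some.injEq] at e; exact e ▸ h0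
  | cons a es ih =>
    intro r m0 m h0 e
    obtain ⟨x, i⟩ := a
    simp only [reachTree] at e
    split at e
    · exact ih r _ m (by rw [Nat.testBit_or, h0, Bool.true_or]) e
    · exact absurd e (by simp)

theorem ncard_filter {p : ℕ → Bool} :
    {x : Fin 416 | p x = true}.ncard = ((List.range 416).filter p).length := by
  classical
  rw [← List.toFinset_card_of_nodup ((List.nodup_range).filter p),
    ← Set.ncard_image_of_injective _ Fin.val_injective, ← Set.ncard_coe_finset]
  congr 1
  ext x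
  simp only [Set.mem_image, Set.mem_setOf_eq, List.coe_toFinset, List.mem_filter, List.mem_range]
  exact ⟨fun ⟨y, hy, e⟩ => e ▸ ⟨y.2, hy⟩, fun ⟨hx, hp⟩ => ⟨⟨x, hx⟩, hp, rfl⟩⟩

theorem orbit_facts :
    (∀ g < 4, ∀ i < 416, rAp g i < 416 ∧ dig4 orbLab (rAp g i) = dig4 orbLab i) ∧
    (∀ i < 416, dig4 orbLab i < 3) ∧
    ∀ c < 3, reachTree rAp (fun g => decide (g < 4)) (orbTree.getD c []) (2 ^ orbRep.getD c 0) =
      some (classMask orbLab c) := by
  have h := orbitsOK_true
  simp only [orbitsOK, Bool.and_eq_true, List.all_eq_true, List.mem_range, decide_eq_true_eq,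
    beq_iff_eq] at h
  exact ⟨fun g hg i hi => h.1.1 g hg i hi, h.1.2, h.2⟩

theorem orbRep_facts : orbRep.getD 0 0 = 0 ∧ orbRep.getD 1 0 < 416 ∧ orbRep.getD 2 0 < 416 ∧
    dig4 orbLab (orbRep.getD 1 0) = 1 ∧ dig4 orbLab (orbRep.getD 2 0) = 2 ∧
    dig4 orbLab 0 = 0 := by decide +kernel

theorem rep_lt {c : ℕ} (hc : c < 3) : orbRep.getD c 0 < 416 := by
  obtain ⟨e0, e1, e2, -⟩ := orbRep_facts
  interval_cases c
  exacts [lt_of_eq_of_lt e0 (by norm_num), e1, e2]

theorem rep_lab {c : ℕ} (hc : c < 3) : dig4 orbLab (orbRep.getD c 0) = c := by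
  obtain ⟨e0, -, -, e1, e2, e3⟩ := orbRep_facts
  interval_cases c
  exacts [(congrArg (dig4 orbLab) e0).trans e3, e1, e2]

variable {G : Type*} [Group G] [MulAction G (Fin 416)]

/-- The data of the four generators of the point stabiliser. -/
def StabGens (H : Subgroup G) (r : Fin 4 → G) : Prop :=
  H = Subgroup.closure (Set.range r) ∧ H = MulAction.stabilizer G (0 : Fin 416) ∧
    ∀ (g : Fin 4) (i : Fin 416), ((r g • i : Fin 416) : ℕ) = rAp g i

theorem orbit_reached {H : Subgroup G} {r : Fin 4 → G} (hd : StabGens H r) {x : Fin 416} {c : ℕ}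
    (hc : c < 3) (hx : dig4 orbLab x = c) :
    ∃ h ∈ H, h • (⟨orbRep.getD c 0, rep_lt hc⟩ : Fin 416) = x := by
  have hb : (classMask orbLab c).testBit x = true := (classMask_bit _ _).mpr ⟨x.2, hx⟩
  refine (CfsgLib.J2.reachTree_spec
    (P := fun y => ∃ hy : y < 416, ∃ h ∈ H,
      h • (⟨orbRep.getD c 0, rep_lt hc⟩ : Fin 416) = ⟨y, hy⟩)
    ?_ _ _ _ (orbit_facts.2.2 c hc) ?_ x hb).2
  · rintro y g hg ⟨hy, h, hh, e⟩
    simp only [decide_eq_true_eq] at hg
    refine ⟨(orbit_facts.1 g hg y hy).1, r ⟨g, hg⟩ * h, mul_mem ?_ hh, ?_⟩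
    · rw [hd.1]; exact Subgroup.subset_closure ⟨_, rfl⟩
    · rw [mul_smul, e]; exact Fin.ext (hd.2.2 ⟨g, hg⟩ _)
  · intro y hy
    rw [Nat.testBit_two_pow, decide_eq_true_eq] at hy
    subst hy
    exact ⟨rep_lt hc, 1, one_mem _, one_smul _ _⟩

theorem lab_invariant {H : Subgroup G} {r : Fin 4 → G} (hd : StabGens H r) {h : G} (hh : h ∈ H)
    (x : Fin 416) : dig4 orbLab ((h • x : Fin 416) : ℕ) = dig4 orbLab x := by
  rw [hd.1] at hh
  induction hh using Subgroup.closure_induction generalizing x with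
  | mem h hh =>
    obtain ⟨g, rfl⟩ := hh
    rw [hd.2.2]; exact (orbit_facts.1 g g.2 x x.2).2
  | one => rw [one_smul]
  | mul a b _ _ ha hb => rw [mul_smul, ha, hb]
  | inv a _ ha =>
    have := ha (a⁻¹ • x)
    rwa [smul_inv_smul, eq_comm] at this

theorem coatom_stab_zero {H : Subgroup G} {r : Fin 4 → G} (hd : StabGens H r)
    [MulAction.IsPretransitive G (Fin 416)] : IsCoatom H := by
  rw [hd.2.1, MulAction.isCoatom_stabilizer_iff_preprimitive]
  obtain ⟨e0, -, -, -, -, el⟩ := orbRep_facts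
  let sz := (List.range 3).map fun d =>
    ((List.range 416).filter fun i => dig4 orbLab i == d).length
  refine preprimitive_of_classes (m := 3) (0 : Fin 416)
    (fun x => ⟨dig4 orbLab x, orbit_facts.2.1 x x.2⟩)
    (fun d => ⟨orbRep.getD d 0, rep_lt d.2⟩) (fun d => sz.getD d 0) ?_ ?_ ?_ ?_
  · intro d
    have h := ncard_filter (p := fun i => dig4 orbLab i == (d : ℕ))
    simp only [beq_iff_eq] at h
    simp only [Fin.ext_iff, sz]
    rw [h]
    fin_cases d <;> rfl
  · intro x e
    have h1 : dig4 orbLab x = 0 := by simpa [Fin.ext_iff, el] using e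
    have hc : {y : Fin 416 | (dig4 orbLab y == 0) = true}.ncard = 1 := by
      exact (ncard_filter (p := fun z => dig4 orbLab z == 0)).trans classSize_base.2.2
    obtain ⟨a, ha⟩ := Set.ncard_eq_one.mp hc
    have hx : x ∈ ({a} : Set (Fin 416)) := by rw [← ha]; simp [h1]
    have h0 : (0 : Fin 416) ∈ ({a} : Set (Fin 416)) := by rw [← ha]; simp [el]
    exact hx.trans h0.symm
  · intro x
    obtain ⟨h, hh, e⟩ := orbit_reached hd (orbit_facts.2.1 x x.2) rfl
    exact ⟨h, by rw [hd.2.1] at hh; exact hh, e⟩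
  · intro J hJ hdvd
    rw [Nat.card_fin] at hdvd
    have hJ' : (⟨0, by norm_num⟩ : Fin 3) ∈ J := by
      convert hJ using 1
      exact Fin.ext el.symm
    rcases sizes_spec (sz := sz) sizesOKG J ⟨0, by simp [sz]⟩ rfl hJ' hdvd with h | h
    · exact Or.inl (h.trans (congrArg _ (Fin.ext el.symm)))
    · exact Or.inr h

theorem word_smul {H : Subgroup G} {r : Fin 4 → G} (hd : StabGens H r) :
    ∀ (l : List ℕ), (∀ g ∈ l, g < 4) →
      ∃ h ∈ H, ∀ i : Fin 416, ((h • i : Fin 416) : ℕ) = wordP permR l i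
  | [], _ => ⟨1, one_mem _, fun i => by rw [one_smul]; rfl⟩
  | g :: l, hl => by
    obtain ⟨h, hh, e⟩ := word_smul hd l (fun x hx => hl x (List.mem_cons_of_mem _ hx))
    refine ⟨r ⟨g, hl g (List.mem_cons_self ..)⟩ * h, mul_mem ?_ hh, fun i => ?_⟩
    · rw [hd.1]; exact Subgroup.subset_closure ⟨_, rfl⟩
    · rw [mul_smul, hd.2.2, e]; rfl

theorem suborbit_coatom {H : Subgroup G} {r : Fin 4 → G} (hd : StabGens H r) {c : ℕ} (hc : c < 3)
    {ws : List (List ℕ)} {lab : ℕ} {reps : List ℕ} {trees : List (List (ℕ × ℕ))}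
    (hsub : subOK c ws lab reps trees = true) {n : ℕ}
    (hn : ((List.range 416).filter fun i => dig4 orbLab i == c).length = n)
    (hsz : sizesOK n ((List.range reps.length).map fun d => classSize c lab d) = true)
    (h1 : classSize c lab 0 = 1) (hn1 : 1 < n) {y : Fin 416} (hy : dig4 orbLab y = c) :
    IsCoatom (MulAction.stabilizer ↥H y) := by
  classical
  simp only [subOK, Bool.and_eq_true, List.all_eq_true, List.mem_range, decide_eq_true_eq,
    beq_iff_eq, Bool.or_eq_true, Bool.not_eq_true', beq_eq_false_iff_ne] at hsub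
  obtain ⟨⟨⟨⟨hw, hlab0⟩, hrep0⟩, hlablt⟩, htree⟩ := hsub
  set x0 : Fin 416 := ⟨orbRep.getD c 0, rep_lt hc⟩
  let O := MulAction.orbit ↥H x0
  have hmemO : ∀ x, x ∈ O ↔ dig4 orbLab (x : ℕ) = c := by
    intro x
    constructor
    · rintro ⟨h, rfl⟩
      show dig4 orbLab (((h : G) • x0 : Fin 416) : ℕ) = c
      rw [lab_invariant hd h.2]; exact rep_lab hc
    · intro e
      obtain ⟨h, hh, e'⟩ := orbit_reached hd hc e
      exact ⟨⟨h, hh⟩, e'⟩
  have hpos : 0 < reps.length := by
    by_contra h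
    have := (hlablt _ (rep_lt hc)).resolve_left (fun e => e (rep_lab hc))
    omega
  have hcl : ∀ d < reps.length,
      {x : O | dig4 lab ((x : Fin 416) : ℕ) = d}.ncard = classSize c lab d := by
    intro d _
    rw [classSize, ← ncard_filter, ← Set.ncard_image_of_injective _ Subtype.val_injective]
    congr 1
    ext x
    simp only [Set.mem_image, Set.mem_setOf_eq, Bool.and_eq_true, beq_iff_eq]
    exact ⟨fun ⟨z, hz, e⟩ => e ▸ ⟨(hmemO _).mp z.2, hz⟩,
      fun ⟨a, b⟩ => ⟨⟨x, (hmemO x).mpr a⟩, b, rfl⟩⟩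
  have hreach : ∀ x : O, ∃ h : ↥H, h • x0 = x0 ∧
      ((h • (⟨reps.getD (dig4 lab ((x : Fin 416) : ℕ)) 0 % 416, Nat.mod_lt _ (by norm_num)⟩ :
        Fin 416) : Fin 416)) = x := by
    intro x
    have hxc : dig4 orbLab ((x : Fin 416) : ℕ) = c := (hmemO _).mp x.2
    have hd' : dig4 lab ((x : Fin 416) : ℕ) < reps.length :=
      (hlablt _ x.1.2).resolve_left (fun e => e hxc)
    generalize hdd : dig4 lab ((x : Fin 416) : ℕ) = d at hd'
    have hb : (classMask orbLab c &&& classMask lab d).testBit ((x : Fin 416) : ℕ) = true := by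
      rw [Nat.testBit_and, (classMask_bit _ _).mpr ⟨x.1.2, hxc⟩,
        (classMask_bit _ _).mpr ⟨x.1.2, hdd⟩]
      rfl
    obtain ⟨hy, h, hh0, he⟩ := CfsgLib.J2.reachTree_spec
      (P := fun z => reps.getD d 0 < 416 → ∃ hz : z < 416, ∃ h : ↥H, h • x0 = x0 ∧
        h • (⟨reps.getD d 0 % 416, Nat.mod_lt _ (by norm_num)⟩ : Fin 416) = ⟨z, hz⟩)
      (fun z g hg hP hlt => by
        simp only [decide_eq_true_eq] at hg
        obtain ⟨hz, h, h0, e⟩ := hP hlt
        obtain ⟨k, hk, ek⟩ := word_smul hd _ (hw g hg).1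
        refine ⟨?_, ⟨k, hk⟩ * h, ?_, ?_⟩
        · exact lt_of_eq_of_lt (ek ⟨z, hz⟩).symm (Fin.isLt _)
        · rw [mul_smul, h0]; exact Fin.ext ((ek x0).trans (hw g hg).2)
        · rw [mul_smul, e]; exact Fin.ext (ek ⟨z, hz⟩))
      _ _ _ (htree d hd') (fun z hz hlt => by
        rw [Nat.testBit_two_pow, decide_eq_true_eq] at hz
        subst hz
        exact ⟨hlt, 1, one_smul _ _, by rw [one_smul]; exact Fin.ext (Nat.mod_eq_of_lt hlt)⟩)
      ((x : Fin 416) : ℕ) hb (by
        -- the representative lies in its class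
        by_contra hge
        have hmask : ∀ z, (classMask orbLab c &&& classMask lab d).testBit z = true → z < 416 := by
          intro z hz
          rw [Nat.testBit_and, Bool.and_eq_true, classMask_bit] at hz
          exact hz.1.1
        exact hge (hmask _ (reach_start _ _ _ (htree d hd'))))
    exact ⟨h, hh0, he⟩
  haveI : MulAction.IsPretransitive ↥H O := inferInstance
  have hcardO : Nat.card O = n := by
    rw [← hn, ← ncard_filter, Nat.card_coe_set_eq]
    congr 1
    ext x
    simp [hmemO]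
  haveI : Nontrivial O := by
    rw [← Finite.one_lt_card_iff_nontrivial, hcardO]; exact hn1
  let yO : O := ⟨y, (hmemO y).mpr hy⟩
  have hp : MulAction.IsPreprimitive ↥H O := by
    let sz := (List.range reps.length).map fun d => classSize c lab d
    have hlen : sz.length = reps.length := by simp [sz]
    let o0 : O := ⟨x0, MulAction.mem_orbit_self _⟩
    let labF : O → Fin sz.length := fun x =>
      ⟨dig4 lab ((x : Fin 416) : ℕ), hlen ▸
        (hlablt _ x.1.2).resolve_left (fun e => e ((hmemO _).mp x.2))⟩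
    have hrepO : ∀ x : O, (⟨reps.getD (dig4 lab ((x : Fin 416) : ℕ)) 0 % 416,
        Nat.mod_lt _ (by norm_num)⟩ : Fin 416) ∈ O := fun x => by
      obtain ⟨h, -, e⟩ := hreach x
      rw [← inv_smul_smul h (⟨reps.getD _ 0 % 416, _⟩ : Fin 416), e]
      exact MulAction.mem_orbit_of_mem_orbit _ x.2
    let repF : Fin sz.length → O := fun d =>
      if hh : (⟨reps.getD (d : ℕ) 0 % 416, Nat.mod_lt _ (by norm_num)⟩ : Fin 416) ∈ O then ⟨_, hh⟩
      else o0
    refine preprimitive_of_classes o0 labF repF (fun d => sz.getD d 0) ?_ ?_ ?_ ?_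
    · intro d
      have hdlt : (d : ℕ) < reps.length := lt_of_lt_of_eq d.2 hlen
      have e := hcl d hdlt
      simp only [labF, Fin.ext_iff]
      rw [e]
      simp [sz, List.getD_eq_getElem?_getD, List.getElem?_map, List.getElem?_range, hdlt]
    · intro x e
      have e' : dig4 lab ((x : Fin 416) : ℕ) = 0 := by
        have := congrArg Fin.val e
        simp only [labF, o0, x0] at this
        exact this.trans hlab0
      obtain ⟨a, ha⟩ := Set.ncard_eq_one.mp ((hcl 0 hpos).trans h1)
      have hx : x ∈ ({a} : Set O) := by rw [← ha]; exact e'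
      have h0 : o0 ∈ ({a} : Set O) := by rw [← ha]; exact hlab0
      exact hx.trans h0.symm
    · intro x
      obtain ⟨h, h0, e⟩ := hreach x
      refine ⟨h, Subtype.ext h0, Subtype.ext ?_⟩
      simp only [repF, labF]
      rw [dif_pos (hrepO x)]
      exact e
    · intro J hJ hdvd
      rw [hcardO] at hdvd
      have hi : (⟨0, lt_of_lt_of_eq hpos hlen.symm⟩ : Fin sz.length) = labF o0 := Fin.ext hlab0.symm
      rcases sizes_spec hsz J ⟨0, lt_of_lt_of_eq hpos hlen.symm⟩ rfl (hi ▸ hJ) hdvd with h | h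
      · exact Or.inl (h.trans (congrArg _ hi))
      · exact Or.inr h
  have e : MulAction.stabilizer ↥H yO = MulAction.stabilizer ↥H y := by
    ext h
    exact ⟨fun e => congrArg Subtype.val e, fun e => Subtype.ext e⟩
  rw [← e, MulAction.isCoatom_stabilizer_iff_preprimitive]
  exact hp

end CfsgLib.G24J2
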