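import Cfsg.Agent.Lib.G24J2.Sub
import Cfsg.Agent.Lib.G24J2.Orbits

/-!
The extremely primitive action of `G₂(4)` on the cosets of `J₂`.
-/

set_option autoImplicit false
set_option linter.unusedSectionVars false
set_option linter.unusedSimpArgs false
set_option linter.style.haveILetI false

namespace CfsgLib.G24J2

open Cfsg.Lie

theorem core {G : Type*} [Group G] [MulAction G (Fin 416)]
    [MulAction.IsPretransitive G (Fin 416)] {H : Subgroup G} {r : Fin 4 → G} (hd : StabGens H r) :
    IsCoatom H ∧ ∀ x : G, x ∉ H →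
      IsCoatom ((H ⊓ H.map (MulAut.conj x).toMonoidHom).subgroupOf H) := by
  refine ⟨coatom_stab_zero hd, fun x hx => ?_⟩
  set y : Fin 416 := x • (0 : Fin 416) with hy
  have hy0 : y ≠ 0 := fun e => hx (by rw [hd.2.1]; exact e)
  have e : (H ⊓ H.map (MulAut.conj x).toMonoidHom).subgroupOf H = MulAction.stabilizer ↥H y := by
    have e1 : H.map (MulAut.conj x).toMonoidHom = MulAction.stabilizer G y := by
      rw [hy, MulAction.stabilizer_smul_eq_stabilizer_map_conj, hd.2.1]
    ext h
    rw [Subgroup.mem_subgroupOf, Subgroup.mem_inf, e1]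
    exact ⟨fun h' => h'.2, fun h' => ⟨h.2, h'⟩⟩
  rw [e]
  have hlt := orbit_facts.2.1 (y : ℕ) y.2
  have h0 : dig4 orbLab (y : ℕ) ≠ 0 := by
    intro e0
    obtain ⟨h, hh, e'⟩ := orbit_reached hd (c := 0) (by norm_num) e0
    apply hy0
    rw [← e', show (⟨orbRep.getD 0 0, rep_lt (by norm_num)⟩ : Fin 416) = 0 from
      Fin.ext orbRep_facts.1]
    rw [hd.2.1] at hh
    exact hh
  rcases (show dig4 orbLab (y : ℕ) = 1 ∨ dig4 orbLab (y : ℕ) = 2 by omega) with h | h
  · exact suborbit_coatom hd (c := 1) (by norm_num) subOKA (n := 315) sizesG1 sizesOKA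
      classSize_base.1 (by norm_num) h
  · exact suborbit_coatom hd (c := 2) (by norm_num) subOKB (n := 100) sizesG2 sizesOKB
      classSize_base.2.1 (by norm_num) h
where
  sizesG1 : ((List.range 416).filter fun i => dig4 orbLab i == 1).length = 315 := by decide +kernel
  sizesG2 : ((List.range 416).filter fun i => dig4 orbLab i == 2).length = 100 := by decide +kernel

theorem exists_hall_janko_subgroup {F : Type*} [Field F] [Fintype F] (hF : Fintype.card F = 4) :
    ∃ H : Subgroup (chevG2.group F), IsCoatom H ∧ Cfsg.Spor.IsoJ2 H ∧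
      ∀ x : chevG2.group F, x ∉ H →
        IsCoatom ((H ⊓ H.map (MulAut.conj x).toMonoidHom).subgroupOf H) := by
  haveI : CharP F 2 := by
    obtain ⟨⟨p, hp⟩⟩ : Nonempty {p // CharP F p} := ⟨⟨ringChar F, ringChar.charP F⟩⟩
    obtain ⟨n, hn, e⟩ := FiniteField.card F p
    rw [hF] at e
    have h2 : p = 2 := (Nat.prime_dvd_prime_iff_eq hn Nat.prime_two).mp
      (hn.dvd_of_dvd_pow (n := 2) (by rw [show (2 : ℕ) ^ 2 = 4 by norm_num, e]
                                      exact dvd_pow_self p n.ne_zero))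
    subst h2
    exact hp
  obtain ⟨w, hw, hs⟩ := omega_exists (F := F) hF
  obtain ⟨⟨e⟩, hform⟩ := exists_equiv hw hs
  haveI : Finite ↥(chevG2.group F) := inferInstance
  let ψ : ↥(chevG2.group F) →* Equiv.Perm (Fin 416) := (setPerm hw).comp e.toMonoidHom
  letI : MulAction ↥(chevG2.group F) (Fin 416) := MulAction.compHom _ ψ
  have hsm : ∀ g i, g • i = setPerm hw (e g) i := fun _ _ => rfl
  haveI : MulAction.IsPretransitive ↥(chevG2.group F) (Fin 416) := by
    refine ⟨fun i j => ?_⟩
    obtain ⟨g, hg⟩ := pretrans hw i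
    obtain ⟨k, hk⟩ := pretrans hw j
    refine ⟨e.symm (k * g⁻¹), ?_⟩
    rw [hsm, e.apply_symm_apply, map_mul, Equiv.Perm.mul_apply, ← hg, map_inv]
    simp [hk]
  let H : Subgroup ↥(chevG2.group F) := (H4 w).comap e.toMonoidHom
  let eH : ↥H ≃* ↥(H4 w) :=
    (e.subgroupMap H).trans (MulEquiv.subgroupCongr
      (Subgroup.map_comap_eq_self_of_surjective e.surjective _))
  have hJ := H4_isoJ2 hw hs hform
  have hcard : Nat.card ↥H = 604800 := (Nat.card_congr eH.toEquiv).trans hJ.2
  have hle : H ≤ MulAction.stabilizer _ (0 : Fin 416) := fun g hg => by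
    rw [MulAction.mem_stabilizer_iff, hsm]
    exact H4_fix_zero hw hg
  have hG : Nat.card ↥(chevG2.group F) = 416 * 604800 := by
    rw [Cfsg.Agent.S1059.result hF]
    norm_num
  have hstab : H = MulAction.stabilizer _ (0 : Fin 416) := by
    refine Subgroup.eq_of_le_of_card_ge hle ?_
    have := Subgroup.card_mul_index (MulAction.stabilizer ↥(chevG2.group F) (0 : Fin 416))
    rw [MulAction.index_stabilizer_of_transitive, Nat.card_fin, hG] at this
    omega
  let r : Fin 4 → ↥(chevG2.group F) := fun g => e.symm (rK w g.2)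
  have hd : StabGens H r := by
    refine ⟨?_, hstab, fun g i => by rw [hsm, e.apply_symm_apply]; exact setPerm_rK hw g.2 i⟩
    show (H4 w).comap e.toMonoidHom = _
    rw [show (H4 w).comap e.toMonoidHom = (H4 w).map e.symm.toMonoidHom from
      (Subgroup.map_equiv_eq_comap_symm' e.symm (H4 w)).symm, H4, MonoidHom.map_closure]
    congr 1
    ext x
    constructor
    · rintro ⟨_, ⟨g, hg, rfl⟩, rfl⟩; exact ⟨⟨g, hg⟩, rfl⟩
    · rintro ⟨g, rfl⟩; exact ⟨_, ⟨g, g.2, rfl⟩, rfl⟩
  obtain ⟨f⟩ := hJ.1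
  exact ⟨H, (core hd).1, ⟨eH.trans f⟩, (core hd).2⟩

end CfsgLib.G24J2
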