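import Cfsg.Agent.Lib.G24J2.CheckGen0
import Cfsg.Agent.Lib.G24J2.CheckGen1
import Cfsg.Agent.Lib.G24J2.CheckGen2
import Cfsg.Agent.Lib.G24J2.CheckGen3
import Cfsg.Agent.Lib.G24J2.CheckGen4
import Cfsg.Agent.Lib.G24J2.CheckGen5
import Cfsg.Agent.Lib.G24J2.CheckGen6
import Cfsg.Agent.Lib.G24J2.CheckGen7
import Cfsg.Agent.Lib.G24J2.CheckWords
import Cfsg.Agent.Lib.G24J2.Field

/-!
The generators act on the 416 point sets and the reflections on the 315 planes.
-/

set_option autoImplicit false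
set_option linter.unusedSectionVars false
set_option linter.unusedSimpArgs false
set_option linter.unusedVariables false

namespace CfsgLib.G24J2

open CfsgLib.J2 (dig9 genAp reachTree)
open CfsgLib.G24 (X)

/-! ### Masks -/

theorem stepM_spec {o : ℕ × ℕ × ℕ} (ho : stepOK o = true) {v : ℕ} (hv : v < 4096) (M : ℕ) :
    (stepM o M).testBit v = M.testBit (stepV o v) ∧ stepV o v < 4096 := by
  have h := List.all_eq_true.mp ho v (List.mem_range.mpr hv)
  simp only [stepM, stepV, Nat.testBit_or, Nat.testBit_and, Nat.testBit_shiftLeft,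
    Nat.testBit_shiftRight]
  rcases Bool.eq_false_or_eq_true (o.2.1.testBit v) with hk | hk
  · simp only [hk, if_true, Bool.and_eq_true, Bool.not_eq_true', Bool.and_eq_false_imp,
      decide_eq_true_eq] at h
    refine ⟨?_, by simp [hk, hv]⟩
    by_cases hd : o.1 ≤ v <;> simp [hk, h.1, hd, h.2]
  · rcases Bool.eq_false_or_eq_true (o.2.2.testBit v) with hp | hp
    · simp only [hk, hp, Bool.false_eq_true, if_false, if_true, Bool.and_eq_true,
        Bool.not_eq_true', Bool.and_eq_false_imp, decide_eq_true_eq] at h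
      refine ⟨?_, by simp [hk, hp, h.2]⟩
      by_cases hd : o.1 ≤ v <;> simp [hk, hp, hd, h.1, Nat.add_comm o.1 v]
    · simp only [hk, hp, Bool.false_eq_true, if_false, Bool.and_eq_true, decide_eq_true_eq] at h
      refine ⟨?_, by simp [hk, hp]; omega⟩
      simp [hk, hp, h.1, h.2]

theorem opData_ok {k : ℕ} (hk : k < 40) : stepOK (opData.getD k (0, 0, 0)) = true := by
  rcases (show k < 10 ∨ 10 ≤ k ∧ k < 20 ∨ 20 ≤ k ∧ k < 30 ∨ 30 ≤ k by omega) with h | h | h | h
  · simpa using List.all_eq_true.mp opsOK0 k (List.mem_range.mpr h)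
  · simpa [Nat.add_sub_cancel' h.1] using
      List.all_eq_true.mp opsOK1 (k - 10) (List.mem_range.mpr (by omega))
  · simpa [Nat.add_sub_cancel' h.1] using
      List.all_eq_true.mp opsOK2 (k - 20) (List.mem_range.mpr (by omega))
  · simpa [Nat.add_sub_cancel' h] using
      List.all_eq_true.mp opsOK3 (k - 30) (List.mem_range.mpr (by omega))

theorem steps_spec : ∀ (ks : List ℕ), (∀ k ∈ ks, k < 40) → ∀ (M v : ℕ), v < 4096 →
    (ks.foldl (fun m k => stepM (opData.getD k (0, 0, 0)) m) M).testBit v =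
        M.testBit (ks.foldr (fun k x => stepV (opData.getD k (0, 0, 0)) x) v) ∧
      ks.foldr (fun k x => stepV (opData.getD k (0, 0, 0)) x) v < 4096
  | [], _, M, v, hv => ⟨rfl, hv⟩
  | k :: ks, hk, M, v, hv => by
    obtain ⟨h1, h2⟩ := steps_spec ks (fun x hx => hk x (List.mem_cons_of_mem _ hx))
      (stepM (opData.getD k (0, 0, 0)) M) v hv
    obtain ⟨h3, h4⟩ := stepM_spec (opData_ok (hk k (List.mem_cons_self ..))) h2 M
    exact ⟨by rw [List.foldl_cons, h1, h3]; rfl, h4⟩

theorem genStepOK_all {g : ℕ} (hg : g < 8) : genStepOK g = true := by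
  interval_cases g
  exacts [genStepOK0, genStepOK1, genStepOK2, genStepOK3, genStepOK4, genStepOK5, genStepOK6,
    genStepOK7]

theorem simGens_lt {g : ℕ} (hg : g < 8) :
    (simGens.getD g (0, 0)).1 < 12 ∧ (simGens.getD g (0, 0)).2 < 4 := by
  interval_cases g <;> simp [simGens]

/-- A generator on coded vectors. -/
def genN (g v : ℕ) : ℕ := mvN (simGens.getD g (0, 0)).1 (simGens.getD g (0, 0)).2 v

theorem genM_spec {g : ℕ} (hg : g < 8) (M : ℕ) {v : ℕ} (hv : v < 4096) :
    (genM g M).testBit v = M.testBit (genN g v) ∧ genN g v < 4096 := by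
  have h := genStepOK_all hg
  simp only [genStepOK, Bool.and_eq_true, List.all_eq_true, List.mem_range, decide_eq_true_eq,
    beq_iff_eq] at h
  obtain ⟨h1, h2⟩ := steps_spec _ h.1 M v hv
  have e : genV g v = genN g v := h.2 v hv
  exact ⟨by rw [← e]; exact h1, by rw [← e]; exact h2⟩

theorem inj_of_check {T : Tab} {srt rk n : ℕ} (h : injOK T srt rk n = true) {i j : ℕ}
    (hi : i < n) (hj : j < n) (e : T.get i = T.get j) : i = j := by
  simp only [injOK, Bool.and_eq_true, List.all_eq_true, List.mem_range, decide_eq_true_eq,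
    beq_iff_eq] at h
  obtain ⟨hlt, hr⟩ := h
  have hmono : ∀ a d, a + (d + 1) < n →
      T.get (dig9 srt a) < T.get (dig9 srt (a + (d + 1))) := by
    intro a d
    induction d with
    | zero => exact fun hb => hlt a (by omega)
    | succ d ih => exact fun hb => (ih (by omega)).trans (hlt (a + (d + 1)) (by omega))
  obtain ⟨a1, a2⟩ := hr i hi
  obtain ⟨b1, b2⟩ := hr j hj
  rcases lt_trichotomy (dig9 rk i) (dig9 rk j) with hl | hl | hl
  · obtain ⟨d, hd⟩ : ∃ d, dig9 rk j = dig9 rk i + (d + 1) := ⟨dig9 rk j - dig9 rk i - 1, by omega⟩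
    have := hmono _ d (hd ▸ b1)
    rw [← hd, a2, b2, e] at this
    omega
  · rw [← a2, ← b2, hl]
  · obtain ⟨d, hd⟩ : ∃ d, dig9 rk i = dig9 rk j + (d + 1) := ⟨dig9 rk i - dig9 rk j - 1, by omega⟩
    have := hmono _ d (hd ▸ a1)
    rw [← hd, a2, b2, e] at this
    omega

/-! ### The sets -/

variable {F : Type*} [Field F] [CharP F 2]

/-- A generating root element. -/
noncomputable def S8 (w : F) (g : ℕ) : (Fin 6 → F) ≃ₗ[F] (Fin 6 → F) :=
  X (simGens.getD g (0, 0)).1 (dec w (simGens.getD g (0, 0)).2)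

theorem S8_dec6 {w : F} (hw : w * w = w + 1) {g : ℕ} (hg : g < 8) (v : ℕ) :
    S8 w g (dec6 w v) = dec6 w (genN g v) :=
  X_dec6 hw _ (simGens_lt hg).1 (simGens_lt hg).2 v

theorem S8_inv (w : F) (g : ℕ) : (S8 w g)⁻¹ = S8 w g := CfsgLib.G24.X_inv _ _

theorem S8_self (w : F) (g : ℕ) (x : Fin 6 → F) : S8 w g (S8 w g x) = x := by
  have : S8 w g * S8 w g = 1 := by nth_rw 1 [← S8_inv]; exact inv_mul_cancel _
  exact LinearEquiv.congr_fun this x

/-- The word of generators as a linear map. -/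
noncomputable def wordS (w : F) (l : List ℕ) : (Fin 6 → F) ≃ₗ[F] (Fin 6 → F) :=
  (l.map (S8 w)).prod

theorem wordS_dec6 {w : F} (hw : w * w = w + 1) :
    ∀ (l : List ℕ), (∀ g ∈ l, g < 8) → ∀ v, wordS w l (dec6 w v) = dec6 w (wordV simGens l v)
  | [], _, v => rfl
  | g :: l, hl, v => by
    simp only [wordS, List.map_cons, List.prod_cons, LinearEquiv.mul_apply]
    rw [show (l.map (S8 w)).prod = wordS w l from rfl,
      wordS_dec6 hw l (fun x hx => hl x (List.mem_cons_of_mem _ hx)) v,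
      S8_dec6 hw (hl g (List.mem_cons_self ..))]
    rfl

/-- The point set with number `i`. -/
def setO (w : F) (i : Fin 416) : Set (Fin 6 → F) :=
  {x | ∃ v < 4096, (setTab.get (i : ℕ)).testBit v = true ∧ dec6 w v = x}

theorem setO_inj {w : F} (hw : w * w = w + 1) : Function.Injective (setO w) := by
  intro i j e
  have hb := setBound_true
  simp only [setBound, List.all_eq_true, List.mem_range, decide_eq_true_eq] at hb
  refine Fin.ext (inj_of_check setInjOK i.2 j.2 (Nat.eq_of_testBit_eq fun v => ?_))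
  by_cases hv : v < 4096
  · have key : ∀ k : Fin 416, dec6 w v ∈ setO w k ↔ (setTab.get (k : ℕ)).testBit v = true := by
      intro k
      constructor
      · rintro ⟨u, hu, hb, eu⟩; rwa [← dec6_inj hw hu hv eu]
      · intro h; exact ⟨v, hv, h, rfl⟩
    exact Bool.eq_iff_iff.mpr (by rw [← key i, ← key j, e])
  · have hle : 2 ^ 4096 ≤ 2 ^ v := Nat.pow_le_pow_right (by norm_num) (by omega)
    rw [Nat.testBit_lt_two_pow (lt_of_lt_of_le (hb i i.2) hle),
      Nat.testBit_lt_two_pow (lt_of_lt_of_le (hb j j.2) hle)]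

theorem setImgOK_all {g : ℕ} (hg : g < 8) : setImgOK g = true := by
  interval_cases g
  exacts [setImgOK0, setImgOK1, setImgOK2, setImgOK3, setImgOK4, setImgOK5, setImgOK6, setImgOK7]

theorem permAp_lt {g : ℕ} (hg : g < 8) {i : ℕ} (hi : i < 416) : permAp g i < 416 := by
  have h := setImgOK_all hg
  simp only [setImgOK, List.all_eq_true, List.mem_range, Bool.and_eq_true, decide_eq_true_eq] at h
  exact (h i hi).1

theorem S8_setO {w : F} (hw : w * w = w + 1) {g : ℕ} (hg : g < 8) (i : Fin 416) :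
    S8 w g '' setO w i = setO w ⟨permAp g i, permAp_lt hg i.2⟩ := by
  have h := setImgOK_all hg
  simp only [setImgOK, List.all_eq_true, List.mem_range, Bool.and_eq_true, decide_eq_true_eq,
    beq_iff_eq] at h
  obtain ⟨-, he⟩ := h i i.2
  ext x
  constructor
  · rintro ⟨_, ⟨v, hv, hb, rfl⟩, rfl⟩
    refine ⟨genN g v, (genM_spec hg 0 hv).2, ?_, (S8_dec6 hw hg v).symm⟩
    show (setTab.get (permAp g i)).testBit _ = true
    rw [← he, (genM_spec hg _ (genM_spec hg 0 hv).2).1]
    have e : dec6 w (genN g (genN g v)) = dec6 w v := by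
      rw [← S8_dec6 hw hg, ← S8_dec6 hw hg, S8_self]
    rwa [dec6_inj hw (genM_spec hg 0 (genM_spec hg 0 hv).2).2 hv e]
  · rintro ⟨v, hv, hb, rfl⟩
    refine ⟨dec6 w (genN g v), ⟨_, (genM_spec hg 0 hv).2, ?_, rfl⟩, ?_⟩
    · change (setTab.get (permAp g i)).testBit v = true at hb
      rwa [← he, (genM_spec hg _ hv).1] at hb
    · rw [← S8_dec6 hw hg, S8_self]

/-! ### The planes -/

/-- The plane with number `k`. -/
def planeP (w : F) (k : Fin 315) : Set (Fin 6 → F) :=
  {x | ∃ a b : F, x = a • dec6 w (fstV k) + b • dec6 w (sndV k)}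

theorem comb_dec {w : F} (hw : w * w = w + 1) (k : ℕ) {c : ℕ} (hc : c < 16) :
    dec6 w (comb k c) = dec w (c / 4) • dec6 w (fstV k) + dec w (c % 4) • dec6 w (sndV k) := by
  rw [comb, dec6_xor, dec6_smulN hw (by omega), dec6_smulN hw (Nat.mod_lt _ (by norm_num))]

theorem comb_mem {w : F} (hw : w * w = w + 1) (k : Fin 315) {c : ℕ} (hc : c < 16) :
    dec6 w (comb k c) ∈ planeP w k :=
  ⟨_, _, comb_dec hw k hc⟩

theorem foldl_or_testBit (v : ℕ) : ∀ (l : List ℕ) (m : ℕ),
    (l.foldl (· ||| ·) m).testBit v = true ↔ m.testBit v = true ∨ ∃ x ∈ l, x.testBit v = true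
  | [], m => by simp
  | y :: l, m => by
    rw [List.foldl_cons, foldl_or_testBit v l, Nat.testBit_or, Bool.or_eq_true]
    simp [or_assoc]

theorem plane_bit {k : ℕ} (hk : k < 315) {v : ℕ} :
    (lineTab.get k).testBit v = true ↔ ∃ c, 1 ≤ c ∧ c < 16 ∧ comb k c = v := by
  have h := planesOK_true
  simp only [planesOK, List.all_eq_true, List.mem_range, Bool.and_eq_true, beq_iff_eq] at h
  rw [← (h k hk).1, planeMask, foldl_or_testBit]
  simp only [Nat.zero_testBit, Bool.false_eq_true, false_or, List.mem_map, List.mem_range]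
  constructor
  · rintro ⟨x, ⟨c, hc, rfl⟩, hx⟩
    rw [Nat.testBit_two_pow, decide_eq_true_eq] at hx
    exact ⟨c + 1, by omega, by omega, hx⟩
  · rintro ⟨c, h1, h2, rfl⟩
    exact ⟨_, ⟨c - 1, by omega, rfl⟩, by simp [show c - 1 + 1 = c by omega]⟩

theorem comb_lt {k : ℕ} (hk : k < 315) {c : ℕ} (h1 : 1 ≤ c) (h2 : c < 16) :
    comb k c < 4096 ∧ comb k c ≠ 0 := by
  have h := planesOK_true
  simp only [planesOK, List.all_eq_true, List.mem_range, Bool.and_eq_true, decide_eq_true_eq,
    Bool.not_eq_true', beq_eq_false_iff_ne] at h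
  have := (h k hk).2 (c - 1) (by omega)
  rwa [show c - 1 + 1 = c by omega] at this

theorem plane_mem_bit {w : F} (hw : w * w = w + 1) (hs : ∀ x : F, ∃ a < 4, dec w a = x)
    (k : Fin 315) {v : ℕ} (hv : v < 4096) (hv0 : v ≠ 0) :
    dec6 w v ∈ planeP w k ↔ (lineTab.get (k : ℕ)).testBit v = true := by
  rw [plane_bit k.2]
  constructor
  · rintro ⟨x, y, e⟩
    obtain ⟨a, ha, rfl⟩ := hs x
    obtain ⟨b, hb, rfl⟩ := hs y
    have e1 : (4 * a + b) / 4 = a := by omega
    have e2 : (4 * a + b) % 4 = b := by omega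
    have e' : dec6 w v = dec6 w (comb k (4 * a + b)) := by
      rw [comb_dec hw k (by omega), e1, e2, e]
    by_cases h0 : 4 * a + b = 0
    · exfalso
      have h00 : comb (k : ℕ) 0 = 0 := by simp [comb, smulN, fmul, pack]
      rw [h0, h00] at e'
      exact hv0 (dec6_inj hw hv (by norm_num) e')
    · exact ⟨4 * a + b, by omega, by omega,
        (dec6_inj hw hv (comb_lt k.2 (by omega) (by omega)).1 e').symm⟩
  · rintro ⟨c, -, hc, rfl⟩
    exact comb_mem hw k hc

theorem planeP_inj {w : F} (hw : w * w = w + 1) (hs : ∀ x : F, ∃ a < 4, dec w a = x) :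
    Function.Injective (planeP w) := by
  intro i j e
  refine Fin.ext (inj_of_check lineInjOK i.2 j.2 (Nat.eq_of_testBit_eq fun v => ?_))
  by_cases hv : v < 4096 ∧ v ≠ 0
  · exact Bool.eq_iff_iff.mpr
      (by rw [← plane_mem_bit hw hs i hv.1 hv.2, ← plane_mem_bit hw hs j hv.1 hv.2, e])
  · have key : ∀ k : Fin 315, (lineTab.get (k : ℕ)).testBit v = false := fun k => by
      rw [← Bool.not_eq_true, plane_bit k.2]
      rintro ⟨c, h1, h2, rfl⟩
      exact hv (comb_lt k.2 h1 h2)
    rw [key, key]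

theorem reflOK_all {g : ℕ} (hg : g < 4) : reflOK g = true := by
  interval_cases g
  exacts [reflOK0, reflOK1, reflOK2, reflOK3]

/-- The reflections as linear maps. -/
noncomputable def R4 (w : F) (g : ℕ) : (Fin 6 → F) ≃ₗ[F] (Fin 6 → F) :=
  wordS w (wordsR.getD g [])

theorem wordsR_lt {g : ℕ} (hg : g < 4) : ∀ i ∈ wordsR.getD g [], i < 8 := by
  have h := reflOK_all hg
  simp only [reflOK, Bool.and_eq_true, List.all_eq_true, decide_eq_true_eq] at h
  exact h.1

theorem genAp_lt {g : ℕ} (hg : g < 4) {k : ℕ} (hk : k < 315) : genAp g k < 315 := by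
  have h := reflOK_all hg
  simp only [reflOK, Bool.and_eq_true, List.all_eq_true, List.mem_range, decide_eq_true_eq] at h
  exact (h.2 k hk).1.1.1

theorem R4_sub {w : F} (hw : w * w = w + 1) {g : ℕ} (hg : g < 4) (k : Fin 315) :
    R4 w g '' planeP w k ⊆ planeP w ⟨genAp g k, genAp_lt hg k.2⟩ := by
  have h := reflOK_all hg
  simp only [reflOK, Bool.and_eq_true, List.all_eq_true, List.mem_range, decide_eq_true_eq,
    beq_iff_eq] at h
  obtain ⟨⟨-, e1⟩, e2⟩ := h.2 k k.2
  rintro _ ⟨_, ⟨a, b, rfl⟩, rfl⟩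
  have hd : dig8 (lineCoef.getD g 0) k < 256 := Nat.mod_lt _ (by norm_num)
  rw [map_add, map_smul, map_smul, R4, wordS_dec6 hw _ (wordsR_lt hg),
    wordS_dec6 hw _ (wordsR_lt hg), e1, e2, comb_dec hw _ (by omega), comb_dec hw _ (by omega)]
  refine ⟨a * dec w (dig8 (lineCoef.getD g 0) k / 16 / 4) +
    b * dec w (dig8 (lineCoef.getD g 0) k % 16 / 4),
    a * dec w (dig8 (lineCoef.getD g 0) k / 16 % 4) +
      b * dec w (dig8 (lineCoef.getD g 0) k % 16 % 4), ?_⟩
  simp only [smul_add, add_smul, smul_smul]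
  abel

theorem genAp_invol {g : ℕ} (hg : g < 4) {k : ℕ} (hk : k < 315) : genAp g (genAp g k) = k := by
  have h := reflOK_all hg
  simp only [reflOK, Bool.and_eq_true, List.all_eq_true, List.mem_range, decide_eq_true_eq,
    beq_iff_eq] at h
  exact (h.2 k hk).1.1.2

end CfsgLib.G24J2
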