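import Cfsg.Agent.Lib.G24J2.Group

/-!
The subgroup of reflections is the Hall-Janko group, of index 416.
-/

set_option autoImplicit false
set_option linter.unusedSectionVars false
set_option linter.unusedSimpArgs false
set_option linter.unusedVariables false

namespace CfsgLib.G24J2

open CfsgLib.J2 (dig9 genAp reachTree)
open CfsgLib.G24 (X form form_add_right form_smul_right form_zero_right form_comm)
open Cfsg.Lie

variable {F : Type*} [Field F] [CharP F 2]

/-- The `i`-th of the seven points. -/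
def frameV (w : F) (i : ℕ) : Fin 6 → F := dec6 w (framePts.getD i (0, 0, 0)).1

theorem frame_eigen {w : F} (hw : w * w = w + 1) (hs : ∀ x : F, ∃ a < 4, dec w a = x) {h : E6 F}
    (hfix : ∀ k : Fin 315, (fun x => h • x) '' planeP w k = planeP w k) {i : ℕ} (hi : i < 7) :
    ∃ c : F, h (frameV w i) = c • frameV w i := by
  have hc := frameOK_true
  simp only [frameOK, Bool.and_eq_true, List.all_eq_true, List.mem_range, decide_eq_true_eq,
    beq_iff_eq] at hc
  obtain ⟨⟨⟨⟨⟨h1, h2⟩, h3⟩, h4⟩, h5⟩, h6⟩ := hc.1.1 i hi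
  unfold frameV
  generalize (framePts.getD i (0, 0, 0)).1 = v at *
  generalize (framePts.getD i (0, 0, 0)).2.1 = k at *
  generalize (framePts.getD i (0, 0, 0)).2.2 = l at *
  have hv0 : v ≠ 0 := by
    rintro rfl
    obtain ⟨c, c1, c2, e⟩ := (plane_bit h1).mp h4
    exact (comb_lt h1 c1 c2).2 e
  have mem : ∀ {k : ℕ} (hk : k < 315), (lineTab.get k).testBit v = true →
      h (dec6 w v) ∈ planeP w ⟨k, hk⟩ := fun {k} hk hb => by
    rw [← hfix ⟨k, hk⟩]
    exact ⟨_, (plane_mem_bit hw hs ⟨k, hk⟩ h3 hv0).mpr hb, rfl⟩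
  have m1 := mem h1 h4
  have m2 := mem h2 h5
  obtain ⟨u, hu, eu⟩ : ∃ u < 4096, dec6 w u = h (dec6 w v) := by
    obtain ⟨a, b, e⟩ := m1
    obtain ⟨a', ha, rfl⟩ := hs a
    obtain ⟨b', hb, rfl⟩ := hs b
    refine ⟨smulN a' (fstV k) ^^^ smulN b' (sndV k), Nat.xor_lt_two_pow (n := 12) ?_ ?_, ?_⟩
    · exact pack_lt (fmul_lt _ _) (fmul_lt _ _) (fmul_lt _ _) (fmul_lt _ _) (fmul_lt _ _) (fmul_lt _ _)
    · exact pack_lt (fmul_lt _ _) (fmul_lt _ _) (fmul_lt _ _) (fmul_lt _ _) (fmul_lt _ _) (fmul_lt _ _)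
    · rw [e, dec6_xor, dec6_smulN hw ha, dec6_smulN hw hb]
  rw [← eu] at m1 m2 ⊢
  by_cases hu0 : u = 0
  · exact ⟨0, by simp [hu0, dec6_zero]⟩
  have b1 := (plane_mem_bit hw hs _ hu hu0).mp m1
  have b2 := (plane_mem_bit hw hs _ hu hu0).mp m2
  have b := congrArg (fun M => M.testBit u) h6
  simp only [Nat.testBit_and, Nat.testBit_or, b1, b2, Nat.testBit_two_pow] at b
  have key : ∀ a < 4, smulN a v = u → ∃ c : F, dec6 w u = c • dec6 w v := fun a ha e =>
    ⟨dec w a, by rw [← e, dec6_smulN hw ha]⟩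
  simp only [Bool.true_and, eq_comm (a := true), Bool.or_eq_true, decide_eq_true_eq] at b
  rcases b with (b | b) | b
  · exact key 1 (by norm_num) b
  · exact key 2 (by norm_num) b
  · exact key 3 (by norm_num) b

theorem frameComb_dec {w : F} (hw : w * w = w + 1) (cs : List ℕ) (hcs : ∀ j < 6, cs.getD j 0 < 4) :
    dec6 w (frameComb cs) = ∑ j : Fin 6, dec w (cs.getD j 0) • frameV w j := by
  simp only [frameComb, List.range_succ, List.range_zero, List.nil_append, List.cons_append,
    List.foldl_cons, List.foldl_nil, dec6_xor, dec6_zero, zero_add, Fin.sum_univ_six]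
  rw [dec6_smulN hw (hcs 0 (by norm_num)), dec6_smulN hw (hcs 1 (by norm_num)),
    dec6_smulN hw (hcs 2 (by norm_num)), dec6_smulN hw (hcs 3 (by norm_num)),
    dec6_smulN hw (hcs 4 (by norm_num)), dec6_smulN hw (hcs 5 (by norm_num))]
  rfl

theorem fix_planes_eq_one {w : F} (hw : w * w = w + 1) (hs : ∀ x : F, ∃ a < 4, dec w a = x)
    {h : E6 F} (hfix : ∀ k : Fin 315, (fun x => h • x) '' planeP w k = planeP w k)
    (hform : ∀ x y, form (h x) (h y) = form x y) : h = 1 := by
  have hc := frameOK_true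
  simp only [frameOK, Bool.and_eq_true, List.all_eq_true, List.mem_range, decide_eq_true_eq,
    beq_iff_eq] at hc
  obtain ⟨⟨-, hb⟩, h7⟩ := hc
  let P : Fin 6 → Fin 6 → F := fun j => frameV w j
  have hspan : ⊤ ≤ Submodule.span F (Set.range P) := by
    rw [← (Pi.basisFun F (Fin 6)).span_eq, Submodule.span_le]
    rintro _ ⟨i, rfl⟩
    rw [Pi.basisFun_apply, ← dec6_std w i]
    obtain ⟨⟨-, hlt⟩, e⟩ := hb i i.2
    change frameComb _ = [1, 4, 16, 64, 256, 1024].getD (i : ℕ) 0 at e
    rw [← e, frameComb_dec hw _ hlt]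
    exact Submodule.sum_mem _ fun j _ => Submodule.smul_mem _ _ (Submodule.subset_span ⟨j, rfl⟩)
  have hli : LinearIndependent F P :=
    linearIndependent_of_top_le_span_of_card_eq_finrank hspan (by simp)
  choose c hcP using fun j : Fin 6 => frame_eigen hw hs hfix (i := j) (by omega)
  obtain ⟨d, hd⟩ := frame_eigen hw hs hfix (i := 6) (by norm_num)
  have hco : ∀ j < 6, frameCoef.getD j 0 < 4 := fun j hj => (hb j hj).1.1.2
  have e7 : frameV w 6 = ∑ j : Fin 6, dec w (frameCoef.getD j 0) • frameV w j := by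
    rw [← frameComb_dec hw _ hco, h7]; rfl
  rw [e7, map_sum, Finset.smul_sum] at hd
  simp only [map_smul, hcP, smul_smul] at hd
  have hz : ∀ j : Fin 6, c j = d := by
    have h0 : ∑ j : Fin 6, (dec w (frameCoef.getD j 0) * (c j - d)) • P j = 0 := by
      simp only [P, mul_sub, sub_smul, Finset.sum_sub_distrib]
      rw [hd]
      simp [mul_comm]
    intro j
    have := Fintype.linearIndependent_iff.mp hli _ h0 j
    have hne : dec w (frameCoef.getD j 0) ≠ 0 := fun e => by
      have h00 := dec_inj hw (hco j j.2) (by norm_num : (0 : ℕ) < 4) (e.trans (dec_zero w).symm)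
      have := (hb j j.2).1.1.1
      omega
    exact sub_eq_zero.mp ((mul_eq_zero.mp this).resolve_left hne)
  have hscal : ∀ x, h x = d • x := by
    intro x
    have hx : x ∈ Submodule.span F (Set.range P) := hspan trivial
    induction hx using Submodule.span_induction with
    | mem x hx => obtain ⟨j, rfl⟩ := hx; show h (frameV w j) = _; rw [hcP, hz]
    | zero => simp
    | add x y _ _ hx hy => simp [hx, hy]
    | smul a x _ hx => rw [map_smul, hx, smul_comm]
  have hd1 : d * d = 1 := by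
    have e := hform (Pi.single 0 1) (Pi.single 5 1)
    rw [hscal, hscal, form_smul_right, form_comm, form_smul_right] at e
    simpa [form, Pi.single_apply] using e
  have hd2 : d = 1 := by
    have : (d + 1) * (d + 1) = 0 := by
      linear_combination hd1 + (d + 1) * CfsgLib.G24.two0 (F := F)
    exact CharTwo.add_eq_zero.mp (mul_self_eq_zero.mp this)
  exact LinearEquiv.ext fun x => by rw [hscal, hd2, one_smul]; rfl

/-- The action on the planes. -/
noncomputable def planePerm {w : F} (hw : w * w = w + 1) (hs : ∀ x : F, ∃ a < 4, dec w a = x) :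
    ↥(H4 w) →* Equiv.Perm (Fin 315) :=
  (famPerm (A := E6 F) (planeP w) (planeP_inj hw hs)).comp
    (((K8 w).subtype.comp (H4 w).subtype).codRestrict (famStab (planeP w) (planeP_inj hw hs))
      (fun x => by
        have : H4 w ≤ (famStab (A := E6 F) (planeP w) (planeP_inj hw hs)).comap (K8 w).subtype := by
          rw [H4, Subgroup.closure_le]
          rintro _ ⟨g, hg, rfl⟩ k
          exact ⟨_, rK_plane hw hg k⟩
        exact this x.2))

/-- A reflection in the subgroup. -/
noncomputable def rH (w : F) {g : ℕ} (hg : g < 4) : ↥(H4 w) :=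
  ⟨rK w hg, Subgroup.subset_closure ⟨g, hg, rfl⟩⟩

theorem planePerm_rH {w : F} (hw : w * w = w + 1) (hs : ∀ x : F, ∃ a < 4, dec w a = x) {g : ℕ}
    (hg : g < 4) : planePerm hw hs (rH w hg) = CfsgLib.J2.lineAct (CfsgLib.J2.genE g) := by
  ext k
  rw [planePerm, MonoidHom.comp_apply, famPerm_apply (rK_plane hw hg k)]
  exact (CfsgLib.J2.genE_apply hg k).symm

theorem planePerm_inj {w : F} (hw : w * w = w + 1) (hs : ∀ x : F, ∃ a < 4, dec w a = x)
    (hform : ∀ g ∈ K8 w, ∀ x y, form (g x) (g y) = form x y) :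
    Function.Injective (planePerm hw hs) := by
  rw [injective_iff_map_eq_one]
  intro x hx
  apply Subtype.ext
  apply Subtype.ext
  refine fix_planes_eq_one hw hs (fun k => ?_) (hform _ x.1.2)
  have := DFunLike.congr_fun hx k
  rw [planePerm, MonoidHom.comp_apply] at this
  exact (famPerm_spec _ k).trans (congrArg (planeP w) this)

theorem planePerm_range {w : F} (hw : w * w = w + 1) (hs : ∀ x : F, ∃ a < 4, dec w a = x) :
    (planePerm hw hs).range = CfsgLib.J2.lineAct.range := by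
  have htop : (⊤ : Subgroup ↥(H4 w)) = Subgroup.closure {x | ∃ g, ∃ hg : g < 4, rH w hg = x} := by
    refine Subgroup.map_injective (H4 w).subtype_injective ?_
    rw [MonoidHom.map_closure, ← MonoidHom.range_eq_map, Subgroup.range_subtype]
    show Subgroup.closure {x | ∃ g, ∃ hg : g < 4, rK w hg = x} = _
    congr 1
    ext x
    constructor
    · rintro ⟨g, hg, rfl⟩; exact ⟨_, ⟨g, hg, rfl⟩, rfl⟩
    · rintro ⟨_, ⟨g, hg, rfl⟩, rfl⟩; exact ⟨g, hg, rfl⟩
  rw [MonoidHom.range_eq_map, MonoidHom.range_eq_map, htop, ← CfsgLib.J2.genH_eq_top,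
    CfsgLib.J2.genH, MonoidHom.map_closure, MonoidHom.map_closure]
  congr 1
  ext x
  constructor
  · rintro ⟨_, ⟨g, hg, rfl⟩, rfl⟩
    exact ⟨_, ⟨g, hg, rfl⟩, (planePerm_rH hw hs hg).symm⟩
  · rintro ⟨_, ⟨g, hg, rfl⟩, rfl⟩
    exact ⟨_, ⟨g, hg, rfl⟩, planePerm_rH hw hs hg⟩

theorem H4_isoJ2 {w : F} (hw : w * w = w + 1) (hs : ∀ x : F, ∃ a < 4, dec w a = x)
    (hform : ∀ g ∈ K8 w, ∀ x y, form (g x) (g y) = form x y) :
    Cfsg.Spor.IsoJ2 ↥(H4 w) ∧ Nat.card ↥(H4 w) = 604800 := by
  let e := (MonoidHom.ofInjective (planePerm_inj hw hs hform)).trans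
    (MulEquiv.subgroupCongr (planePerm_range hw hs))
  refine ⟨⟨e.trans ((QuotientGroup.quotientKerEquivRange CfsgLib.J2.lineAct).symm.trans
    (QuotientGroup.quotientMulEquivOfEq CfsgLib.J2.ker_eq_center))⟩, ?_⟩
  rw [Nat.card_congr e.toEquiv]
  exact CfsgLib.J2.card_J

end CfsgLib.G24J2
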